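import Mathlib
import Cfsg.Agent.Lib.Classical.SylowLargePrime
import Cfsg.Agent.Lib.Classical.SympOrder

/-!
# The power of `2` in the orders of `GL_n(q)`, `SL_n(q)` and `Sp_{2n}(q)`, `q` odd
-/

set_option autoImplicit false

namespace Cfsg.Agent.SylowTwoOrders

theorem lte_two {x : ℕ} (hx : 1 < x) (h4 : 4 ∣ x - 1) : ∀ i : ℕ, 0 < i →
    (x ^ i - 1).factorization 2 = (x - 1).factorization 2 + i.factorization 2 := by
  haveI : Fact (Nat.Prime 2) := ⟨Nat.prime_two⟩
  intro i
  induction i using Nat.strong_induction_on with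
  | _ i ih =>
    intro hi
    rcases Nat.even_or_odd i with ⟨j, rfl⟩ | hodd
    · have hj : 0 < j := by omega
      have h1 : 1 < x ^ j := Nat.one_lt_pow hj.ne' hx
      have hsplit : x ^ (j + j) - 1 = (x ^ j - 1) * (x ^ j + 1) := by
        obtain ⟨y, hy⟩ : ∃ y, x ^ j = y + 1 := ⟨x ^ j - 1, by omega⟩
        rw [pow_add, hy, Nat.add_sub_cancel]
        apply Nat.sub_eq_of_eq_add
        ring
      have h4j : 4 ∣ x ^ j - 1 := h4.trans (by simpa using Nat.sub_dvd_pow_sub_pow x 1 j)
      have hv : (x ^ j + 1).factorization 2 = 1 := by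
        obtain ⟨c, hc⟩ := h4j
        rw [show x ^ j + 1 = 2 * (2 * c + 1) by omega, Nat.factorization_mul two_ne_zero (by omega),
          Finsupp.add_apply, Nat.Prime.factorization_self Nat.prime_two,
          Nat.factorization_eq_zero_of_not_dvd (by omega : ¬ 2 ∣ 2 * c + 1)]
      rw [hsplit, Nat.factorization_mul (by omega) (by omega), Finsupp.add_apply, hv,
        ih j (by omega) hj, ← two_mul j, Nat.factorization_mul two_ne_zero hj.ne', Finsupp.add_apply,
        Nat.Prime.factorization_self Nat.prime_two]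
      ring
    · rw [CfsgLib.Classical.SylowLargePrime.factorization_pow_sub_one hx.le
        ((by norm_num : (2 : ℕ) ∣ 4).trans h4) (by obtain ⟨c, rfl⟩ := hodd; omega),
        Nat.factorization_eq_zero_of_not_dvd (by obtain ⟨c, rfl⟩ := hodd; omega : ¬ 2 ∣ i), add_zero]

theorem fact_factorial (n : ℕ) :
    n.factorial.factorization 2 = ∑ i ∈ Finset.range n, (i + 1).factorization 2 := by
  induction n with
  | zero => simp
  | succ n ih =>
    rw [Nat.factorial_succ, Nat.factorization_mul (Nat.succ_ne_zero n) (Nat.factorial_ne_zero n),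
      Finsupp.add_apply, Finset.sum_range_succ, ih, add_comm]

theorem four_dvd_sq_sub_one {q : ℕ} (hodd : Odd q) : 4 ∣ q ^ 2 - 1 := by
  obtain ⟨c, rfl⟩ := hodd
  exact ⟨c ^ 2 + c, Nat.sub_eq_of_eq_add (by ring)⟩

variable {F : Type*} [Field F] [Fintype F] {q : ℕ}

theorem fact_GL_sum (hq : Fintype.card F = q) (hodd : Odd q) (n : ℕ) :
    (Nat.card (GL (Fin n) F)).factorization 2 =
      ∑ j ∈ Finset.range n, (q ^ (j + 1) - 1).factorization 2 := by
  haveI : Fact (Nat.Prime 2) := ⟨Nat.prime_two⟩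
  have hq2 : 2 ≤ q := hq ▸ Fintype.one_lt_card
  have hne : ∀ i < n, q ^ n - q ^ i ≠ 0 := fun i hi => by
    have := Nat.pow_lt_pow_right (by omega : 1 < q) hi
    omega
  have hterm : ∀ i < n, (q ^ n - q ^ i).factorization 2 = (q ^ (n - 1 - i + 1) - 1).factorization 2 :=
      fun i hi => by
    have h2 := hne i hi
    rw [show q ^ n - q ^ i = q ^ i * (q ^ (n - i) - 1) by
      rw [Nat.mul_sub, mul_one, ← pow_add, Nat.add_sub_cancel' hi.le]] at h2 ⊢
    rw [Nat.factorization_mul (pow_ne_zero _ (by omega)) (right_ne_zero_of_mul h2), Finsupp.add_apply,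
      Nat.factorization_eq_zero_of_not_dvd fun h =>
        Nat.not_even_iff_odd.mpr hodd (even_iff_two_dvd.mpr (Nat.prime_two.dvd_of_dvd_pow h)),
      zero_add, show n - 1 - i + 1 = n - i by omega]
  rw [CfsgLib.Classical.card_GL_fin, hq,
    Nat.factorization_prod (fun (i : Fin n) _ => hne i i.2), Finsupp.finsetSum_apply,
    Fin.sum_univ_eq_sum_range (fun i => (q ^ n - q ^ i).factorization 2),
    Finset.sum_congr rfl fun i hi => hterm i (Finset.mem_range.mp hi),
    Finset.sum_range_reflect (fun j => (q ^ (j + 1) - 1).factorization 2) n]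

theorem fact_GL_one_mod (hq : Fintype.card F = q) (hodd : Odd q) (h4 : 4 ∣ q - 1) (n : ℕ) :
    (Nat.card (GL (Fin n) F)).factorization 2 =
      n * (q - 1).factorization 2 + n.factorial.factorization 2 := by
  have hq2 : 2 ≤ q := hq ▸ Fintype.one_lt_card
  rw [fact_GL_sum hq hodd, Finset.sum_congr rfl fun j _ => lte_two (by omega) h4 (j + 1) (by omega),
    Finset.sum_add_distrib, Finset.sum_const, Finset.card_range, smul_eq_mul, fact_factorial]

theorem fact_sub_one_three_mod {q : ℕ} (h4 : 4 ∣ q + 1) : (q - 1).factorization 2 = 1 := by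
  obtain ⟨c, hc⟩ := h4
  rw [show q - 1 = 2 * (2 * c - 1) by omega, Nat.factorization_mul two_ne_zero (by omega),
    Finsupp.add_apply, Nat.Prime.factorization_self Nat.prime_two,
    Nat.factorization_eq_zero_of_not_dvd (by omega : ¬ 2 ∣ 2 * c - 1)]

theorem fact_GL_three_mod (hq : Fintype.card F = q) (h4 : 4 ∣ q + 1) (m : ℕ) :
    (Nat.card (GL (Fin (2 * m)) F)).factorization 2 =
        m * (1 + (q ^ 2 - 1).factorization 2) + m.factorial.factorization 2 ∧
      (Nat.card (GL (Fin (2 * m + 1)) F)).factorization 2 =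
        m * (1 + (q ^ 2 - 1).factorization 2) + m.factorial.factorization 2 + 1 := by
  haveI : Fact (Nat.Prime 2) := ⟨Nat.prime_two⟩
  have hq2 : 2 ≤ q := hq ▸ Fintype.one_lt_card
  have hodd : Odd q := by
    obtain ⟨c, hc⟩ := h4
    exact ⟨2 * c - 1, by omega⟩
  have hoddterm : ∀ i : ℕ, (q ^ (2 * i + 1) - 1).factorization 2 = 1 := fun i => by
    rw [CfsgLib.Classical.SylowLargePrime.factorization_pow_sub_one (by omega)
      (by obtain ⟨c, hc⟩ := h4; omega) (by omega), fact_sub_one_three_mod h4]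
  have heven : ∀ i : ℕ, (q ^ (2 * (i + 1)) - 1).factorization 2 =
      (q ^ 2 - 1).factorization 2 + (i + 1).factorization 2 := fun i => by
    rw [pow_mul]
    exact lte_two (Nat.one_lt_pow two_ne_zero (by omega)) (four_dvd_sq_sub_one hodd) _ (by omega)
  have key : ∀ m : ℕ, ∑ j ∈ Finset.range (2 * m), (q ^ (j + 1) - 1).factorization 2 =
      m * (1 + (q ^ 2 - 1).factorization 2) + m.factorial.factorization 2 := by
    intro m
    induction m with
    | zero => simp
    | succ m ih =>
      rw [show 2 * (m + 1) = 2 * m + 1 + 1 by ring, Finset.sum_range_succ, Finset.sum_range_succ, ih,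
        hoddterm, show 2 * m + 1 + 1 = 2 * (m + 1) by ring, heven, fact_factorial, fact_factorial,
        Finset.sum_range_succ]
      ring
  refine ⟨by rw [fact_GL_sum hq hodd, key], ?_⟩
  rw [fact_GL_sum hq hodd, Finset.sum_range_succ, key, hoddterm]

theorem fact_SL {n : ℕ} (hn : 1 ≤ n) (hq : Fintype.card F = q) :
    (Nat.card (GL (Fin n) F)).factorization 2 =
      (q - 1).factorization 2 + (Nat.card (Matrix.SpecialLinearGroup (Fin n) F)).factorization 2 := by
  haveI : Nonempty (Fin n) := Fin.pos_iff_nonempty.mp hn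
  have hq2 : 2 ≤ q := hq ▸ Fintype.one_lt_card
  rw [CfsgLib.Classical.card_GL_eq_mul_card_SL, Nat.card_units, Nat.card_eq_fintype_card (α := F), hq,
    Nat.factorization_mul (by omega) Nat.card_pos.ne', Finsupp.add_apply]

theorem fact_Sp (hq : Fintype.card F = q) (hodd : Odd q) (n : ℕ) :
    (Nat.card (Matrix.symplecticGroup (Fin n) F)).factorization 2 =
      n * (q ^ 2 - 1).factorization 2 + n.factorial.factorization 2 := by
  haveI : Fact (Nat.Prime 2) := ⟨Nat.prime_two⟩
  have hq2 : 2 ≤ q := hq ▸ Fintype.one_lt_card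
  have hne : ∀ i ∈ Finset.range n, q ^ (2 * (i + 1)) - 1 ≠ 0 := fun i _ => by
    have : 1 < q ^ (2 * (i + 1)) := Nat.one_lt_pow (by omega) (by omega)
    omega
  rw [CfsgLib.Classical.SympTrans.card_symplectic, Nat.card_eq_fintype_card (α := F), hq,
    Nat.factorization_mul (pow_ne_zero _ (by omega)) (Finset.prod_ne_zero_iff.mpr hne),
    Finsupp.add_apply, Nat.factorization_eq_zero_of_not_dvd (fun h =>
      Nat.not_even_iff_odd.mpr hodd (even_iff_two_dvd.mpr (Nat.prime_two.dvd_of_dvd_pow h))),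
    zero_add, Nat.factorization_prod hne, Finsupp.finsetSum_apply,
    Finset.sum_congr rfl fun i _ => (show (q ^ (2 * (i + 1)) - 1).factorization 2 =
        (q ^ 2 - 1).factorization 2 + (i + 1).factorization 2 by
      rw [pow_mul]
      exact lte_two (Nat.one_lt_pow two_ne_zero (by omega)) (four_dvd_sq_sub_one hodd) _ (by omega)),
    Finset.sum_add_distrib, Finset.sum_const, Finset.card_range, smul_eq_mul, fact_factorial]

theorem fact_SL_two (hq : Fintype.card F = q) (hodd : Odd q) :
    (Nat.card (Matrix.SpecialLinearGroup (Fin 2) F)).factorization 2 = (q ^ 2 - 1).factorization 2 := by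
  have hq2 : 2 ≤ q := hq ▸ Fintype.one_lt_card
  have h1 : 1 < q ^ 2 := Nat.one_lt_pow two_ne_zero (by omega)
  rw [CfsgLib.Classical.card_SL_two, hq, Nat.factorization_mul (by omega) (by omega), Finsupp.add_apply,
    Nat.factorization_eq_zero_of_not_dvd (fun h => Nat.not_even_iff_odd.mpr hodd (even_iff_two_dvd.mpr h)),
    zero_add]

theorem card_sylow_perm {ι : Type*} [Finite ι] [Fact (Nat.Prime 2)] (Q : Sylow 2 (Equiv.Perm ι)) :
    Nat.card (Q : Subgroup (Equiv.Perm ι)) = 2 ^ (Nat.card ι).factorial.factorization 2 := by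
  rw [Q.card_eq_multiplicity, Nat.card_perm]

end Cfsg.Agent.SylowTwoOrders
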