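import Mathlib
import Cfsg.Agent.Lib.Fusion.AltSimple.Setup

/-!
# Block monomial groups and squares modulo the derived subgroup

The group `(ι → D) ⋊ P` for a permutation group `P` on `ι`, its block monomial representation with
determinant, and the property that every square lies in the derived subgroup.
-/

set_option autoImplicit false

namespace Cfsg.Agent.BlockMonomial

open Matrix
open scoped commutatorElement

/-- Every square lies in the derived subgroup. -/
def SqComm (X : Type*) [Group X] : Prop := ∀ x : X, x ^ 2 ∈ commutator X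

theorem sqComm_of_closure {X : Type*} [Group X] {s : Set X} (hs : Subgroup.closure s = ⊤)
    (h : ∀ x ∈ s, x ^ 2 ∈ commutator X) : SqComm X := by
  intro x
  have key : ∀ y : X, y ^ 2 ∈ commutator X ↔ (Abelianization.of y) ^ 2 = 1 := fun y => by
    rw [← map_pow]
    exact (QuotientGroup.eq_one_iff (N := commutator X) _).symm
  rw [key]
  have hx : x ∈ Subgroup.closure s := hs ▸ Subgroup.mem_top x
  induction hx using Subgroup.closure_induction with
  | mem y hy => exact (key y).mp (h y hy)
  | one => simp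
  | mul a b _ _ ha hb => rw [map_mul, mul_pow, ha, hb, one_mul]
  | inv a _ ha => rw [map_inv, inv_pow, ha, inv_one]

theorem sqComm_of_surjective {X Y : Type*} [Group X] [Group Y] (f : X →* Y)
    (hf : Function.Surjective f) (h : SqComm X) : SqComm Y := by
  intro y
  obtain ⟨x, rfl⟩ := hf y
  rw [← map_pow]
  have h1 := Subgroup.mem_map_of_mem f (h x)
  rw [commutator_def, Subgroup.map_commutator] at h1
  exact Subgroup.commutator_mono le_top le_top h1

theorem sqComm_congr {X Y : Type*} [Group X] [Group Y] (e : X ≃* Y) (h : SqComm X) : SqComm Y :=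
  sqComm_of_surjective e.toMonoidHom e.surjective h

theorem map_mem_commutator {X Y : Type*} [Group X] [Group Y] (f : X →* Y) {x : X}
    (h : x ∈ commutator X) : f x ∈ commutator Y := by
  have h1 := Subgroup.mem_map_of_mem f h
  rw [commutator_def, Subgroup.map_commutator] at h1
  exact Subgroup.commutator_mono le_top le_top h1

theorem sqComm_quaternion {k : ℕ} (hk : 1 ≤ k) : SqComm (QuaternionGroup (2 ^ k)) := by
  have h2 : QuaternionGroup.a (n := 2 ^ k) 2 ∈ commutator (QuaternionGroup (2 ^ k)) := by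
    have h : ⁅(QuaternionGroup.a 1 : QuaternionGroup (2 ^ k)), QuaternionGroup.xa (n := 2 ^ k) 0⁆ =
        QuaternionGroup.a 2 := by
      rw [commutatorElement_def, mul_inv_eq_iff_eq_mul, mul_inv_eq_iff_eq_mul,
        QuaternionGroup.a_mul_xa, QuaternionGroup.a_mul_xa, QuaternionGroup.xa_mul_a]
      congr 1
      ring
    rw [← h, commutator_def]
    exact Subgroup.commutator_mem_commutator (Subgroup.mem_top _) (Subgroup.mem_top _)
  have hpow : ∀ i : ℕ, (QuaternionGroup.a (n := 2 ^ k) 2) ^ i = QuaternionGroup.a ((2 * i : ℕ) : ZMod (2 * 2 ^ k)) := by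
    intro i
    induction i with
    | zero => simp
    | succ i ih =>
      rw [pow_succ, ih, QuaternionGroup.a_mul_a]
      congr 1
      push_cast
      ring
  intro x
  rcases x with i | i
  · obtain ⟨i, rfl⟩ := ZMod.natCast_zmod_surjective i
    rw [sq, QuaternionGroup.a_mul_a, ← Nat.cast_add, ← two_mul, ← hpow]
    exact pow_mem h2 i
  · rw [sq, QuaternionGroup.xa_mul_xa, add_sub_assoc, sub_self, add_zero]
    obtain ⟨j, rfl⟩ := Nat.exists_eq_add_of_le hk
    rw [show ((2 ^ (1 + j) : ℕ) : ZMod (2 * 2 ^ (1 + j))) = ((2 * 2 ^ j : ℕ) : ZMod (2 * 2 ^ (1 + j))) from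
      congrArg Nat.cast (by rw [pow_add, pow_one]), ← hpow]
    exact pow_mem h2 _

variable {ι : Type*} (P : Subgroup (Equiv.Perm ι)) (D : Type*) [Group D]

/-- Permutation of the coordinates. -/
def act : P →* MulAut (ι → D) where
  toFun π :=
    { toFun := fun a i => a ((π : Equiv.Perm ι)⁻¹ i)
      invFun := fun a i => a ((π : Equiv.Perm ι) i)
      left_inv := fun a => funext fun i => by simp
      right_inv := fun a => funext fun i => by simp
      map_mul' := fun a b => rfl }
  map_one' := by ext a i; simp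
  map_mul' π σ := by ext a i; simp

/-- The block monomial group. -/
abbrev BM := (ι → D) ⋊[act P D] P

theorem card_BM [Finite ι] [Finite D] :
    Nat.card (BM P D) = Nat.card D ^ Nat.card ι * Nat.card P := by
  rw [SemidirectProduct.card, Nat.card_fun]

variable {P D}

theorem closure_BM [Finite ι] [DecidableEq ι]
    (hP : P ≤ Subgroup.closure {x | x ∈ P ∧ x ^ 2 = 1}) (S : Set D) (hS : Subgroup.closure S = ⊤) :
    Subgroup.closure ({g : BM P D | ∃ i, ∃ d ∈ S, g = SemidirectProduct.inl (Pi.mulSingle i d)} ∪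
      {g | ∃ π : P, π ^ 2 = 1 ∧ g = SemidirectProduct.inr π}) = ⊤ := by
  rw [eq_top_iff]
  set K := Subgroup.closure ({g : BM P D | ∃ i, ∃ d ∈ S, g = SemidirectProduct.inl (Pi.mulSingle i d)} ∪
      {g | ∃ π : P, π ^ 2 = 1 ∧ g = SemidirectProduct.inr π}) with hK
  intro g _
  rw [← SemidirectProduct.inl_left_mul_inr_right g]
  refine K.mul_mem ?_ ?_
  · suffices h : g.left ∈ K.comap SemidirectProduct.inl from h
    refine Subgroup.pi_mem_of_mulSingle_mem _ fun i => ?_
    have hle : (⊤ : Subgroup D) ≤ (K.comap SemidirectProduct.inl).comap (MonoidHom.mulSingle (fun _ : ι => D) i) := by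
      rw [← hS, Subgroup.closure_le]
      exact fun d hd => Subgroup.subset_closure (Or.inl ⟨i, d, hd, rfl⟩)
    exact hle (Subgroup.mem_top _)
  · suffices h : ∀ x ∈ Subgroup.closure {x | x ∈ P ∧ x ^ 2 = 1},
        ∃ hx : x ∈ P, SemidirectProduct.inr ⟨x, hx⟩ ∈ K by
      obtain ⟨_, h'⟩ := h _ (hP g.right.2)
      exact h'
    intro x hx
    induction hx using Subgroup.closure_induction with
    | mem y hy => exact ⟨hy.1, Subgroup.subset_closure (Or.inr ⟨⟨y, hy.1⟩, Subtype.ext hy.2, rfl⟩)⟩
    | one => exact ⟨P.one_mem, by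
        rw [show (⟨1, P.one_mem⟩ : P) = 1 from rfl, map_one]; exact K.one_mem⟩
    | mul a b _ _ ha hb =>
      obtain ⟨ha, ha'⟩ := ha
      obtain ⟨hb, hb'⟩ := hb
      refine ⟨P.mul_mem ha hb, ?_⟩
      rw [show (⟨a * b, P.mul_mem ha hb⟩ : P) = ⟨a, ha⟩ * ⟨b, hb⟩ from rfl, map_mul]
      exact K.mul_mem ha' hb'
    | inv a _ ha =>
      obtain ⟨ha, ha'⟩ := ha
      refine ⟨P.inv_mem ha, ?_⟩
      rw [show (⟨a⁻¹, P.inv_mem ha⟩ : P) = ⟨a, ha⟩⁻¹ from rfl, map_inv]
      exact K.inv_mem ha'

theorem sqComm_BM [Finite ι] [DecidableEq ι]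
    (hP : P ≤ Subgroup.closure {x | x ∈ P ∧ x ^ 2 = 1}) (hD : SqComm D) : SqComm (BM P D) := by
  refine sqComm_of_closure (closure_BM hP Set.univ Subgroup.closure_univ) ?_
  rintro _ (⟨i, d, -, rfl⟩ | ⟨π, hπ, rfl⟩)
  · rw [← map_pow, ← Pi.mulSingle_pow]
    exact map_mem_commutator
      ((SemidirectProduct.inl (φ := act P D)).comp (MonoidHom.mulSingle (fun _ : ι => D) i)) (hD d)
  · rw [← map_pow, hπ, map_one]
    exact Subgroup.one_mem _

variable {κ R : Type*} [Fintype κ] [DecidableEq κ] [CommRing R] [Fintype ι] [DecidableEq ι]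

/-- The block monomial representation. -/
def rep (ρ : D →* Matrix κ κ R) : BM P D →* Matrix (κ × ι) (κ × ι) R where
  toFun g := Matrix.of fun x y =>
    if y.2 = (g.right : Equiv.Perm ι)⁻¹ x.2 then ρ (g.left x.2) x.1 y.1 else 0
  map_one' := by
    ext ⟨i, a⟩ ⟨j, c⟩
    by_cases h : c = a
    · subst h; simp [Matrix.one_apply]
    · simp [Matrix.one_apply, h, Ne.symm h]
  map_mul' v w := by
    ext ⟨i, a⟩ ⟨j, c⟩
    rw [Matrix.mul_apply, Fintype.sum_prod_type_right,
      Fintype.sum_eq_single ((v.right : Equiv.Perm ι)⁻¹ a)]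
    · simp only [Matrix.of_apply, SemidirectProduct.mul_left, SemidirectProduct.mul_right,
        Subgroup.coe_mul, _root_.mul_inv_rev, Equiv.Perm.mul_apply, ↓reduceIte, Pi.mul_apply, map_mul,
        Matrix.mul_apply, act, MonoidHom.coe_mk, OneHom.coe_mk, MulEquiv.coe_mk, Equiv.coe_fn_mk]
      split_ifs
      · rfl
      · simp
    · intro b hb
      exact Finset.sum_eq_zero fun l _ => by
        simp only [Matrix.of_apply, if_neg hb, zero_mul]

theorem rep_injective [Nontrivial R] [Nonempty κ] {ρ : D →* Matrix κ κ R}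
    (hρ : Function.Injective ρ) : Function.Injective (rep (P := P) ρ) := by
  intro v w h
  have hr : ∀ a, (v.right : Equiv.Perm ι)⁻¹ a = (w.right : Equiv.Perm ι)⁻¹ a := by
    intro a
    by_contra hne
    obtain ⟨i⟩ := ‹Nonempty κ›
    have hz : ∀ j, ρ (v.left a) i j = 0 := fun j => by
      have := congrFun (congrFun h (i, a)) (j, (v.right : Equiv.Perm ι)⁻¹ a)
      simp only [rep, MonoidHom.coe_mk, OneHom.coe_mk, Matrix.of_apply, ↓reduceIte, if_neg hne] at this
      exact this
    have h1 : (ρ (v.left a) * ρ (v.left a)⁻¹) i i = 0 := by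
      rw [Matrix.mul_apply]
      exact Finset.sum_eq_zero fun j _ => by rw [hz j, zero_mul]
    rw [← map_mul, mul_inv_cancel, map_one, Matrix.one_apply_eq] at h1
    exact one_ne_zero h1
  have hright : v.right = w.right := Subtype.ext (inv_injective (Equiv.ext hr))
  refine SemidirectProduct.ext (funext fun a => hρ (Matrix.ext fun i j => ?_)) hright
  have := congrFun (congrFun h (i, a)) (j, (v.right : Equiv.Perm ι)⁻¹ a)
  simpa [rep, hright] using this

theorem rep_det (ρ : D →* Matrix κ κ R) (g : BM P D) :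
    (rep ρ g).det = (∏ i, (ρ (g.left i)).det) *
      ((Equiv.Perm.sign (g.right : Equiv.Perm ι) : ℤ) : R) ^ Fintype.card κ := by
  conv_lhs => rw [← SemidirectProduct.inl_left_mul_inr_right g, map_mul, Matrix.det_mul]
  congr 1
  · rw [← Matrix.det_blockDiagonal]
    congr 1
    ext ⟨i, a⟩ ⟨j, c⟩
    simp [rep, Matrix.blockDiagonal_apply, eq_comm]
    by_cases hac : a = c
    · subst hac; exact (if_pos rfl).trans (if_pos rfl).symm
    · exact (if_neg hac).trans (if_neg fun h => hac h.symm).symm
  · have h : rep ρ (SemidirectProduct.inr g.right) = Matrix.reindex (Equiv.prodComm ι κ) (Equiv.prodComm ι κ)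
        (Matrix.blockDiagonal fun _ : κ => ((g.right : Equiv.Perm ι)⁻¹).permMatrix R) := by
      ext ⟨i, a⟩ ⟨j, c⟩
      simp [rep, Matrix.blockDiagonal_apply, Equiv.Perm.permMatrix, PEquiv.toMatrix_apply,
        Matrix.one_apply, eq_comm]
      by_cases hij : i = j <;> simp [hij, eq_comm]
    rw [h, Matrix.det_reindex_self, Matrix.det_blockDiagonal, Finset.prod_const, Finset.card_univ,
      Matrix.det_permutation, Equiv.Perm.sign_inv]

/-- The form on the copies. -/
def copies (A : Matrix κ κ R) : Matrix (κ × ι) (κ × ι) R :=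
  Matrix.of fun x y => if x.2 = y.2 then A x.1 y.1 else 0

theorem rep_preserves (ρ : D →* Matrix κ κ R) (A : Matrix κ κ R)
    (h : ∀ d, ρ d * A * (ρ d)ᵀ = A) (g : BM P D) :
    rep ρ g * copies A * (rep ρ g)ᵀ = copies (ι := ι) A := by
  ext ⟨i, a⟩ ⟨j, c⟩
  have h1 : ∀ y : κ × ι, (rep ρ g * copies (ι := ι) A) (i, a) y =
      if y.2 = (g.right : Equiv.Perm ι)⁻¹ a then (ρ (g.left a) * A) i y.1 else 0 := by
    rintro ⟨l, b⟩
    rw [Matrix.mul_apply, Fintype.sum_prod_type_right, Fintype.sum_eq_single b]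
    · simp only [rep, copies, MonoidHom.coe_mk, OneHom.coe_mk, Matrix.of_apply, ↓reduceIte]
      split_ifs
      · rfl
      · simp
    · intro b' hb'
      exact Finset.sum_eq_zero fun l' _ => by simp [copies, hb']
  rw [Matrix.mul_apply, Fintype.sum_prod_type_right,
    Fintype.sum_eq_single ((g.right : Equiv.Perm ι)⁻¹ a)]
  · simp only [h1, ↓reduceIte]
    simp only [Matrix.transpose_apply, rep, copies, MonoidHom.coe_mk, OneHom.coe_mk, Matrix.of_apply]
    by_cases hca : a = c
    · subst hca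
      rw [if_pos rfl, ← congrFun (congrFun (h (g.left a)) i) j, Matrix.mul_apply]
      simp
    · rw [if_neg hca, Finset.sum_eq_zero]
      intro l _
      rw [if_neg fun e => hca (Equiv.injective _ e), mul_zero]
  · intro b hb
    exact Finset.sum_eq_zero fun l _ => by rw [h1, if_neg hb, zero_mul]

omit [Fintype ι] [DecidableEq ι] in
theorem sylow_gen [Finite ι] (Q : Sylow 2 (Equiv.Perm ι)) :
    (Q : Subgroup (Equiv.Perm ι)) ≤ Subgroup.closure {x | x ∈ (Q : Subgroup (Equiv.Perm ι)) ∧ x ^ 2 = 1} := by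
  haveI : Fact (Nat.Prime 2) := ⟨Nat.prime_two⟩
  let e : Equiv.Perm ι ≃* Equiv.Perm (Fin (Nat.card ι)) := (Finite.equivFin ι).permCongrHom
  have hc : Nat.card ((Q : Subgroup (Equiv.Perm ι)).map e.toMonoidHom) =
      2 ^ (Nat.card (Equiv.Perm (Fin (Nat.card ι)))).factorization 2 := by
    rw [Subgroup.card_map_of_injective (K := (Q : Subgroup (Equiv.Perm ι))) (f := e.toMonoidHom) e.injective,
      Q.card_eq_multiplicity, Nat.card_congr e.toEquiv]
  have h := CfsgLib.AltSimple.sylow_gen (p := 2) _ (Sylow.ofCard _ hc)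
  rw [Sylow.coe_ofCard] at h
  have h2 := CfsgLib.AltSimple.Gen.map h e.symm.toMonoidHom
  rw [Subgroup.map_map] at h2
  have hid : e.symm.toMonoidHom.comp e.toMonoidHom = MonoidHom.id _ :=
    MonoidHom.ext fun x => e.symm_apply_apply x
  rw [hid, Subgroup.map_id] at h2
  exact h2

end Cfsg.Agent.BlockMonomial
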