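import Mathlib
import Cfsg.Agent.Lib.LinearPGroup.BlockMonomial
import Cfsg.Agent.Lib.LinearPGroup.SylowTwoOrders
import Cfsg.Agent.Lib.SL2.Facts

/-!
# Sylow 2-subgroups of `SL_2`, `GL_2` and block monomial models in higher degree
-/

set_option autoImplicit false

namespace Cfsg.Agent.SylowTwoModels

open Matrix Cfsg.Agent.BlockMonomial Cfsg.Agent.SylowTwoOrders

variable {F : Type*} [Field F] [Fintype F]

theorem sqComm_SL2 (hodd : Odd (Fintype.card F)) (T : Sylow 2 (Matrix.SpecialLinearGroup (Fin 2) F)) :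
    SqComm (T : Subgroup (Matrix.SpecialLinearGroup (Fin 2) F)) := by
  obtain ⟨k, hk, ⟨e⟩⟩ := CfsgLib.SL2.sylow_two_quaternion (by rwa [Nat.card_eq_fintype_card]) T
  exact sqComm_congr e.symm (sqComm_quaternion hk)

omit [Fintype F] in
/-- The matrices of `SL_2` as a monoid hom. -/
theorem exists_val : ∃ f : Matrix.SpecialLinearGroup (Fin 2) F →* Matrix (Fin 2) (Fin 2) F,
    ∀ A, f A = (A : Matrix (Fin 2) (Fin 2) F) :=
  ⟨{ toFun := fun A => (A : Matrix (Fin 2) (Fin 2) F), map_one' := rfl, map_mul' := fun _ _ => rfl },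
    fun _ => rfl⟩

/-- A Sylow 2-subgroup of `GL_2(q)`, `q ≡ 3 (mod 4)`. -/
theorem exists_GL2 {q : ℕ} (hq : Fintype.card F = q) (h4 : 4 ∣ q + 1) :
    ∃ D : Subgroup (GL (Fin 2) F), Nat.card D = 2 ^ (1 + (q ^ 2 - 1).factorization 2) ∧ SqComm D ∧
      (∀ d : D, ((d : GL (Fin 2) F) : Matrix (Fin 2) (Fin 2) F).det = 1 ∨
        ((d : GL (Fin 2) F) : Matrix (Fin 2) (Fin 2) F).det = -1) ∧
      ∃ (τ : D) (S₀ : Subgroup D), τ * τ = 1 ∧ SqComm S₀ ∧
        ((τ : GL (Fin 2) F) : Matrix (Fin 2) (Fin 2) F).det = -1 ∧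
        ∀ d : D, d ∈ S₀ ↔ ((d : GL (Fin 2) F) : Matrix (Fin 2) (Fin 2) F).det = 1 := by
  classical
  haveI : Fact (Nat.Prime 2) := ⟨Nat.prime_two⟩
  have hq2 : 2 ≤ q := hq ▸ Fintype.one_lt_card
  have hodd : Odd q := by
    obtain ⟨c, hc⟩ := h4
    exact ⟨2 * c - 1, by omega⟩
  let t : GL (Fin 2) F := ⟨!![1, 0; 0, -1], !![1, 0; 0, -1], by simp [one_fin_two], by simp [one_fin_two]⟩
  have ht : t * t = 1 := Units.ext (by simp [t, one_fin_two])
  have ht2 : IsPGroup 2 (Subgroup.zpowers t) := by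
    obtain ⟨k, -, hk⟩ := (Nat.dvd_prime_pow Nat.prime_two).mp
      (orderOf_dvd_of_pow_eq_one (x := t) (n := 2 ^ 1) (by rw [pow_one, sq, ht]))
    exact IsPGroup.of_card (n := k) (by rw [Nat.card_zpowers, hk])
  obtain ⟨S, hS⟩ := ht2.exists_le_sylow
  have htS : t ∈ (S : Subgroup (GL (Fin 2) F)) := hS (Subgroup.mem_zpowers t)
  have hcard : Nat.card (S : Subgroup (GL (Fin 2) F)) = 2 ^ (1 + (q ^ 2 - 1).factorization 2) := by
    have h := (fact_GL_three_mod (F := F) hq h4 1).1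
    rw [one_mul, Nat.factorial_one, Nat.factorization_one, Finsupp.zero_apply, add_zero] at h
    rw [S.card_eq_multiplicity]
    exact congrArg _ h
  let dd : (S : Subgroup (GL (Fin 2) F)) →* Fˣ :=
    GeneralLinearGroup.det.comp (S : Subgroup (GL (Fin 2) F)).subtype
  have hdd : ∀ d, (dd d : F) = ((d : GL (Fin 2) F) : Matrix (Fin 2) (Fin 2) F).det := fun d => rfl
  have hdet : ∀ d, (dd d : F) = 1 ∨ (dd d : F) = -1 := by
    intro d
    obtain ⟨k, hk⟩ := S.isPGroup' d
    have h1 : orderOf (dd d) ∣ 2 ^ k := orderOf_dvd_of_pow_eq_one (by rw [← map_pow, hk, map_one])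
    have h2 : orderOf (dd d) ∣ q - 1 := by
      have := orderOf_dvd_natCard (dd d)
      rwa [Nat.card_units, Nat.card_eq_fintype_card, hq] at this
    have h3 : orderOf (dd d) ∣ 2 := by
      obtain ⟨i, -, hi⟩ := (Nat.dvd_prime_pow Nat.prime_two).mp h1
      rw [hi] at h2 ⊢
      have h5 := (Nat.prime_two.pow_dvd_iff_le_factorization (by omega)).mp h2
      rw [fact_sub_one_three_mod h4] at h5
      simpa using Nat.pow_dvd_pow 2 h5
    have h6 := congrArg Units.val (orderOf_dvd_iff_pow_eq_one.mp h3)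
    rw [Units.val_pow_eq_pow_val, Units.val_one] at h6
    exact sq_eq_one_iff.mp h6
  have hne : (1 : F) ≠ -1 := fun h => by
    have h2 : (2 : F) = 0 := by rw [← one_add_one_eq_two]; linear_combination h
    exact CfsgLib.SL2.odd_card_two_ne_zero (by rwa [Nat.card_eq_fintype_card, hq]) h2
  have htd : (dd ⟨t, htS⟩ : F) = -1 := by rw [hdd]; simp [t, Matrix.det_fin_two]
  -- the kernel is a Sylow subgroup of `SL_2`
  have hrange : Nat.card dd.range = 2 := by
    rw [Nat.card_eq_two_iff]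
    refine ⟨⟨1, dd.range.one_mem⟩, ⟨dd ⟨t, htS⟩, ⟨⟨t, htS⟩, rfl⟩⟩, ?_, ?_⟩
    · intro h
      exact hne (by rw [← htd, ← congrArg (fun u : dd.range => ((u : Fˣ) : F)) h]; rfl)
    · refine Set.eq_univ_of_forall ?_
      rintro ⟨_, d, rfl⟩
      rcases hdet d with h | h
      · exact Or.inl (Subtype.ext (Units.ext h))
      · exact Or.inr (Subtype.ext (Units.ext (h.trans htd.symm)))
  have hker : Nat.card dd.ker = 2 ^ (q ^ 2 - 1).factorization 2 := by
    have h := Subgroup.card_eq_card_quotient_mul_card_subgroup dd.ker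
    rw [Nat.card_congr (QuotientGroup.quotientKerEquivRange dd).toEquiv, hrange, hcard, pow_add, pow_one] at h
    omega
  have hlift : ∀ d : dd.ker, ((d : (S : Subgroup (GL (Fin 2) F))) : GL (Fin 2) F) ∈
      (Matrix.SpecialLinearGroup.toGL : Matrix.SpecialLinearGroup (Fin 2) F →* GL (Fin 2) F).range := by
    intro d
    rw [CfsgLib.Classical.range_toGL_eq_ker_det]
    exact d.2
  choose g hg using hlift
  have hinj := CfsgLib.Classical.toGL_injective' (ι := Fin 2) (F := F)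
  obtain ⟨T⟩ : Nonempty (Sylow 2 (Matrix.SpecialLinearGroup (Fin 2) F)) := inferInstance
  obtain ⟨e⟩ := CfsgLib.Classical.SylowLargePrime.sylow_iso
    (MonoidHom.mk' g fun a b => hinj (by
      rw [hg, map_mul, hg, hg, Subgroup.coe_mul, Subgroup.coe_mul]))
    (fun a b h => Subtype.ext (Subtype.ext (by rw [← hg a, ← hg b]; exact congrArg _ h)))
    (by rw [hker, fact_SL_two hq hodd]) T
  have h0 : SqComm dd.ker := sqComm_congr e (sqComm_SL2 (by rw [hq]; exact hodd) T)
  have hmem : ∀ d, d ∈ dd.ker ↔ ((d : GL (Fin 2) F) : Matrix (Fin 2) (Fin 2) F).det = 1 := fun d => by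
    rw [MonoidHom.mem_ker, ← hdd, Units.val_eq_one]
  refine ⟨(S : Subgroup (GL (Fin 2) F)), hcard, ?_, fun d => hdd d ▸ hdet d, ⟨t, htS⟩, dd.ker,
    Subtype.ext ht, h0, (hdd _).symm.trans htd, hmem⟩
  refine sqComm_of_closure (s := (dd.ker : Set _) ∪ {⟨t, htS⟩}) ?_ ?_
  · rw [eq_top_iff]
    intro d _
    rcases hdet d with h | h
    · exact Subgroup.subset_closure (Or.inl (MonoidHom.mem_ker.mpr (Units.ext h)))
    · have h1 : ⟨t, htS⟩ * d ∈ dd.ker := MonoidHom.mem_ker.mpr (Units.ext (by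
        rw [map_mul, Units.val_mul, htd, h, neg_mul_neg, one_mul, Units.val_one]))
      have h2 : d = ⟨t, htS⟩⁻¹ * (⟨t, htS⟩ * d) := (inv_mul_cancel_left _ d).symm
      rw [h2]
      exact Subgroup.mul_mem _ (Subgroup.inv_mem _ (Subgroup.subset_closure (Or.inr rfl)))
        (Subgroup.subset_closure (Or.inl h1))
  · rintro x (hx | rfl)
    · exact map_mem_commutator dd.ker.subtype (h0 ⟨x, hx⟩)
    · rw [sq, show (⟨t, htS⟩ : (S : Subgroup (GL (Fin 2) F))) * ⟨t, htS⟩ = 1 from Subtype.ext ht]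
      exact Subgroup.one_mem _

/-- The block monomial matrices in `GL_{2m}`. -/
theorem exists_monomial (D : Subgroup (GL (Fin 2) F)) {m : ℕ} (P : Subgroup (Equiv.Perm (Fin m))) :
    ∃ f : BM P D →* GL (Fin (2 * m)) F, Function.Injective f ∧
      ∀ g, (f g : Matrix (Fin (2 * m)) (Fin (2 * m)) F).det =
        ∏ i, ((g.left i : GL (Fin 2) F) : Matrix (Fin 2) (Fin 2) F).det := by
  classical
  let ρ : D →* Matrix (Fin 2) (Fin 2) F := (Units.coeHom _).comp D.subtype
  have hρ : Function.Injective ρ := fun x y h => Subtype.ext (Units.ext h)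
  refine ⟨((Matrix.reindexAlgEquiv F F finProdFinEquiv).toMulEquiv.toMonoidHom.comp
    (rep (P := P) ρ)).toHomUnits, fun x y h =>
      rep_injective hρ ((Matrix.reindexAlgEquiv F F finProdFinEquiv).injective (congrArg Units.val h)),
    fun g => ?_⟩
  show (Matrix.reindexAlgEquiv F F finProdFinEquiv (rep ρ g)).det = _
  rw [Matrix.det_reindexAlgEquiv, rep_det]
  simp [ρ, ← Int.cast_pow, ← Units.val_pow_eq_pow_val, Int.units_sq]

end Cfsg.Agent.SylowTwoModels
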