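import Mathlib
import Cfsg.Agent.Lib.PSolvable.Omega
import Cfsg.Agent.Lib.Fusion.DStar

/-!
# The derived length of linear and permutation `p`-groups

A `p`-group all of whose orbits have at most `p ^ k` points has its `k`-th derived subgroup acting
trivially; a finite `p`-group of matrices of degree `n` has derived length at most `log₂ n + 1`.
-/

set_option autoImplicit false
set_option linter.style.haveILetI false

namespace Cfsg.Agent.LinearPGroup

open CfsgLib
open scoped commutatorElement

variable {P : Type*} [Group P]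

/-- The iterated derived subgroups of a subgroup. -/
abbrev der (k : ℕ) (Q : Subgroup P) : Subgroup P := (fun R => ⁅R, R⁆)^[k] Q

theorem der_top (k : ℕ) : der k (⊤ : Subgroup P) = derivedSeries P k := by
  induction k with
  | zero => rfl
  | succ k ih =>
    show (fun R => ⁅R, R⁆)^[k + 1] (⊤ : Subgroup P) = _
    rw [Function.iterate_succ_apply', derivedSeries_succ, ← ih]

variable [Finite P] {p : ℕ} [hp : Fact p.Prime]

/-- In a `p`-group with orbits of size at most `p ^ k`, `P^(k)` acts trivially. -/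
theorem der_fixes {Ω : Type*} [Finite Ω] [MulAction P Ω] (hP : IsPGroup p P) :
    ∀ (k : ℕ) (Q : Subgroup P), (∀ ω : Ω, Nat.card (MulAction.orbit Q ω) ≤ p ^ k) →
      ∀ x ∈ der k Q, ∀ ω : Ω, x • ω = ω := by
  intro k
  induction k with
  | zero =>
    intro Q hQ x hx ω
    have h := hQ ω
    rw [pow_zero] at h
    haveI : Finite (MulAction.orbit Q ω) := inferInstance
    haveI := Finite.card_le_one_iff_subsingleton.1 h
    exact congrArg Subtype.val (Subsingleton.elim
      (⟨(⟨x, hx⟩ : Q) • ω, ⟨x, hx⟩, rfl⟩ : MulAction.orbit Q ω) ⟨ω, MulAction.mem_orbit_self ω⟩)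
  | succ k ih =>
    intro Q hQ x hx
    rw [der, Function.iterate_succ_apply] at hx
    refine ih _ (fun ω => ?_) x hx
    set C := commutator Q with hC
    have hCQ : ⁅Q, Q⁆ ≤ Q := Subgroup.commutator_le_self Q
    rcases le_or_gt (Nat.card (MulAction.orbit Q ω)) (p ^ k) with hle | hlt
    · refine le_trans (Nat.card_mono (Set.toFinite _) ?_) hle
      rintro _ ⟨c, rfl⟩
      exact ⟨⟨c, hCQ c.2⟩, rfl⟩
    · have hQp : IsPGroup p Q := hP.to_subgroup Q
      set S := MulAction.stabilizer Q ω with hS
      have hidx : S.index = Nat.card (MulAction.orbit Q ω) :=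
        (Nat.card_coe_set_eq _).symm ▸ MulAction.index_stabilizer Q ω
      have hSt : S ≠ ⊤ := fun h => by
        rw [h, Subgroup.index_top] at hidx
        have := Nat.one_le_pow k p hp.out.pos
        omega
      obtain ⟨M, hM, hSM⟩ := (eq_top_or_exists_le_coatom S).resolve_left hSt
      have hCM : commutator Q ≤ M := (PSolvable.commutator_le_frattini hQp).1.trans
        (frattini_le_coatom hM)
      -- orbits of `M` are shorter
      have h1 : Nat.card (MulAction.orbit M ω) * M.index = Nat.card (MulAction.orbit Q ω) := by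
        rw [← hidx, ← Subgroup.relIndex_mul_index hSM]
        congr 1
        rw [Nat.card_coe_set_eq, ← MulAction.index_stabilizer M ω]
        rfl
      have h2 : p ≤ M.index := by
        obtain ⟨j, hj⟩ := hQp.index M
        rw [hj]
        refine Nat.le_self_pow (fun h0 => hM.1 (Subgroup.index_eq_one.1 ?_)) p
        rw [hj, h0, pow_zero]
      have h3 : Nat.card (MulAction.orbit M ω) ≤ p ^ k := by
        have h4 := hQ ω
        rw [← h1, pow_succ] at h4
        exact Nat.le_of_mul_le_mul_right ((Nat.mul_le_mul_left _ h2).trans h4) hp.out.pos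
      refine le_trans (Nat.card_mono (Set.toFinite _) ?_) h3
      rintro _ ⟨c, rfl⟩
      have hcM : (⟨c, hCQ c.2⟩ : Q) ∈ M := by
        refine hCM ?_
        rw [commutator_def, ← Subgroup.mem_map_iff_mem Q.subtype_injective, Subgroup.map_commutator,
          ← MonoidHom.range_eq_map, Subgroup.range_subtype]
        exact c.2
      exact ⟨⟨_, hcM⟩, rfl⟩

/-- A `p`-group permuting at most `n` points: the derived series dies at `log₂ n`. -/
theorem derivedSeries_fixes {Ω : Type*} [Finite Ω] [MulAction P Ω] (hP : IsPGroup p P) {n : ℕ}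
    (hn : Nat.card Ω ≤ n) {x : P} (hx : x ∈ derivedSeries P (Nat.log 2 n)) (ω : Ω) :
    x • ω = ω := by
  rw [← der_top] at hx
  refine der_fixes hP _ ⊤ (fun ω' => ?_) x hx ω
  obtain ⟨j, hj⟩ := (hP.to_subgroup ⊤).card_orbit ω'
  have hjn : p ^ j ≤ n := by
    rw [← hj]
    exact (Finite.card_subtype_le _).trans hn
  rw [hj]
  refine Nat.pow_le_pow_right hp.out.pos (Nat.le_log_of_pow_le one_lt_two ?_)
  exact (Nat.pow_le_pow_left hp.out.two_le j).trans hjn

variable {F : Type*} [Field F] {V : Type*} [AddCommGroup V] [Module F V] [FiniteDimensional F V]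

/-- The fixed point series of a linear action. -/
def flag (ρ : P →* Module.End F V) : ℕ → Submodule F V
  | 0 => ⊥
  | i + 1 => ⨅ g : P, (flag ρ i).comap (ρ g - 1)

omit [Finite P] [FiniteDimensional F V] in
theorem mem_flag_succ {ρ : P →* Module.End F V} {i : ℕ} {v : V} :
    v ∈ flag ρ (i + 1) ↔ ∀ g, ρ g v - v ∈ flag ρ i := by
  rw [flag, Submodule.mem_iInf]
  exact Iff.rfl

omit [Finite P] [FiniteDimensional F V] in
theorem flag_invariant (ρ : P →* Module.End F V) :
    ∀ i, ∀ g, ∀ v ∈ flag ρ i, ρ g v ∈ flag ρ i := by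
  intro i
  induction i with
  | zero =>
    intro g v hv
    rw [flag, Submodule.mem_bot] at hv ⊢
    rw [hv, map_zero]
  | succ i ih =>
    intro g v hv
    rw [mem_flag_succ] at hv ⊢
    intro h
    have h1 := sub_mem (hv (h * g)) (hv g)
    rw [map_mul, sub_sub_sub_cancel_right] at h1
    exact h1

omit [Finite P] [FiniteDimensional F V] in
theorem flag_le_succ (ρ : P →* Module.End F V) (i : ℕ) : flag ρ i ≤ flag ρ (i + 1) := fun v hv =>
  mem_flag_succ.2 fun g => sub_mem (flag_invariant ρ i g v hv) hv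

omit [FiniteDimensional F V] in
/-- A `p`-group acting on a non-zero vector space of characteristic `p` fixes a non-zero vector. -/
theorem exists_fixed [CharP F p] (hP : IsPGroup p P) (ρ : P →* Module.End F V) {v : V} (hv : v ≠ 0) :
    ∃ w : V, w ≠ 0 ∧ ∀ g, ρ g w = w := by
  have hpV : ∀ x : V, p • x = 0 := fun x => by
    rw [← Nat.cast_smul_eq_nsmul F, CharP.cast_eq_zero, zero_smul]
  letI : Module (ZMod p) V := AddCommGroup.zmodModule (n := p) hpV
  obtain ⟨S, hS⟩ : ∃ S : Submodule (ZMod p) V,
      S = Submodule.span (ZMod p) (Set.range fun g => ρ g v) := ⟨_, rfl⟩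
  haveI : Module.Finite (ZMod p) ↥S :=
    hS ▸ Module.Finite.iff_fg.2 (Submodule.fg_span (Set.finite_range fun g => ρ g v))
  haveI : Finite S := Module.finite_of_finite (ZMod p)
  have hinv : ∀ g, ∀ x ∈ S, ρ g x ∈ S := by
    intro g x hx
    rw [hS] at hx
    induction hx using Submodule.span_induction with
    | mem x hx =>
      obtain ⟨h, rfl⟩ := hx
      rw [hS]
      refine Submodule.subset_span ⟨g * h, ?_⟩
      show ρ (g * h) v = ρ g (ρ h v)
      rw [map_mul]
      rfl
    | zero => rw [map_zero]; exact zero_mem _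
    | add x y _ _ h1 h2 => rw [map_add]; exact add_mem h1 h2
    | smul a x _ h1 =>
      rw [ZMod.map_smul]
      exact Submodule.smul_mem _ a h1
  letI : MulAction P S :=
    { smul := fun g x => ⟨ρ g x, hinv g x x.2⟩
      one_smul := fun x => Subtype.ext (show ρ 1 (x : V) = x by rw [map_one]; rfl)
      mul_smul := fun g h x => Subtype.ext (show ρ (g * h) (x : V) = ρ g (ρ h x) by
        rw [map_mul]; rfl) }
  have h0 : (0 : S) ∈ MulAction.fixedPoints P S := fun g =>
    Subtype.ext (show ρ g (0 : V) = 0 from map_zero _)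
  have hvS : v ∈ S := hS ▸ Submodule.subset_span ⟨1, by simp⟩
  have hdvd : p ∣ Nat.card S := by
    refine dvd_trans ?_ (addOrderOf_dvd_natCard (⟨v, hvS⟩ : S))
    rw [addOrderOf_eq_prime (Subtype.ext (hpV v)) fun h => hv (congrArg Subtype.val h)]
  obtain ⟨w, hw, hw0⟩ := hP.exists_fixed_point_of_prime_dvd_card_of_fixed_point S hdvd h0
  exact ⟨w, fun h => hw0 (Subtype.ext h.symm), fun g => congrArg Subtype.val (hw g)⟩

theorem flag_finrank [CharP F p] (hP : IsPGroup p P) (ρ : P →* Module.End F V) (i : ℕ) :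
    flag ρ i = ⊤ ∨ i ≤ Module.finrank F (flag ρ i) := by
  induction i with
  | zero => exact Or.inr (Nat.zero_le _)
  | succ i ih =>
    rcases ih with h | h
    · exact Or.inl (top_le_iff.1 (h ▸ flag_le_succ ρ i))
    by_cases ht : flag ρ i = ⊤
    · exact Or.inl (top_le_iff.1 (ht ▸ flag_le_succ ρ i))
    refine Or.inr (Nat.succ_le_of_lt (h.trans_lt (Submodule.finrank_lt_finrank_of_lt
      (lt_of_le_of_ne (flag_le_succ ρ i) fun he => ?_))))
    obtain ⟨v, -, hv⟩ := SetLike.exists_of_lt (lt_top_iff_ne_top.2 ht)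
    let σ : P →* Module.End F (V ⧸ flag ρ i) :=
      { toFun := fun g => (flag ρ i).mapQ (flag ρ i) (ρ g) fun x hx => flag_invariant ρ i g x hx
        map_one' := by ext x; simp
        map_mul' := fun g h => by ext x; simp }
    obtain ⟨w, hw0, hw⟩ := exists_fixed hP σ (v := Submodule.Quotient.mk v)
      (fun h0 => hv ((Submodule.Quotient.mk_eq_zero _).1 h0))
    obtain ⟨w, rfl⟩ := Submodule.Quotient.mk_surjective _ w
    refine hw0 ((Submodule.Quotient.mk_eq_zero _).2 (he.ge (mem_flag_succ.2 fun g => ?_)))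
    exact (Submodule.Quotient.eq _).1 (hw g)

omit [Finite P] [FiniteDimensional F V] in
/-- `P^(k)` moves the flag down by `2 ^ k` steps. -/
theorem derivedSeries_flag (ρ : P →* Module.End F V) :
    ∀ k, ∀ x ∈ derivedSeries P k, ∀ i, ∀ v ∈ flag ρ (i + 2 ^ k), ρ x v - v ∈ flag ρ i := by
  intro k
  induction k with
  | zero => exact fun x _ i v hv => mem_flag_succ.1 hv x
  | succ k ih =>
    intro x hx
    rw [derivedSeries_succ] at hx
    set m := 2 ^ k with hm
    have h2 : 2 ^ (k + 1) = m + m := by rw [pow_succ]; omega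
    induction hx using Subgroup.closure_induction with
    | one => intro i v _; simp
    | mem x hx =>
      obtain ⟨g, hg, h, hh, rfl⟩ := hx
      intro i v hv
      rw [h2, ← add_assoc] at hv
      set u := ρ (g⁻¹ * h⁻¹) v with hu
      have huW : u ∈ flag ρ (i + m + m) := flag_invariant ρ _ _ v hv
      have e1 : ρ g (ρ h u - u) - (ρ h u - u) ∈ flag ρ i := ih g hg i _ (ih h hh _ u huW)
      have e2 : ρ h (ρ g u - u) - (ρ g u - u) ∈ flag ρ i := ih h hh i _ (ih g hg _ u huW)
      have e3 : ρ g (ρ h u) = ρ ⁅g, h⁆ v := by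
        show (ρ g * ρ h) u = _
        rw [hu, ← map_mul]
        show (ρ (g * h) * ρ (g⁻¹ * h⁻¹)) v = _
        rw [← map_mul, commutatorElement_def]
        congr 2
        group
      have e4 : ρ h (ρ g u) = v := by
        show (ρ h * ρ g) u = _
        rw [hu, ← map_mul]
        show (ρ (h * g) * ρ (g⁻¹ * h⁻¹)) v = _
        rw [← map_mul, show h * g * (g⁻¹ * h⁻¹) = 1 by group, map_one]
        rfl
      have e5 := sub_mem e1 e2
      rw [map_sub, map_sub, e3, e4] at e5
      convert e5 using 1
      abel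
    | mul x y _ _ hx hy =>
      intro i v hv
      have h1 : ρ y v ∈ flag ρ (i + 2 ^ (k + 1)) := flag_invariant ρ _ _ v hv
      have h2 := add_mem (hx i _ h1) (hy i v hv)
      rw [sub_add_sub_cancel] at h2
      rw [map_mul]
      exact h2
    | inv x _ hx =>
      intro i v hv
      have h1 := hx i _ (flag_invariant ρ _ x⁻¹ v hv)
      rw [show ρ x (ρ x⁻¹ v) = v by
        show (ρ x * ρ x⁻¹) v = v
        rw [← map_mul, mul_inv_cancel, map_one]; rfl] at h1
      simpa using neg_mem h1

/-- Characteristic `p`. -/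
theorem derivedSeries_eq_bot_of_charP [CharP F p] (hP : IsPGroup p P) (ρ : P →* Module.End F V)
    (hρ : Function.Injective ρ) :
    derivedSeries P (Nat.log 2 (Module.finrank F V) + 1) = ⊥ := by
  set n := Module.finrank F V with hn
  have hmono : ∀ i j, i ≤ j → flag ρ i ≤ flag ρ j := fun i j h =>
    monotone_nat_of_le_succ (flag_le_succ ρ) h
  have htop : flag ρ n = ⊤ := by
    rcases flag_finrank hP ρ n with h | h
    · exact h
    · exact Submodule.eq_top_of_finrank_eq (le_antisymm (Submodule.finrank_le _) h)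
  rw [Subgroup.eq_bot_iff_forall]
  intro x hx
  refine hρ (LinearMap.ext fun v => ?_)
  have hv : v ∈ flag ρ (0 + 2 ^ (Nat.log 2 n + 1)) :=
    hmono n _ (by rw [Nat.zero_add]; exact (Nat.lt_pow_succ_log_self one_lt_two n).le)
      (htop ▸ Submodule.mem_top)
  have h := derivedSeries_flag ρ _ x hx 0 v hv
  rw [flag, Submodule.mem_bot, sub_eq_zero] at h
  rw [map_one]
  exact h

/-- Characteristic different from `p`, algebraically closed field. -/
theorem derivedSeries_eq_bot_of_ne [IsAlgClosed F] (hp0 : (p : F) ≠ 0) (hP : IsPGroup p P)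
    (ρ : P →* Module.End F V) (hρ : Function.Injective ρ) :
    derivedSeries P (Nat.log 2 (Module.finrank F V) + 1) = ⊥ := by
  classical
  haveI : Group.IsNilpotent (⊤ : Subgroup P) := (hP.to_subgroup ⊤).isNilpotent
  obtain ⟨A, -, hAn, hAc, hAC⟩ := DStar.exists_self_centralizing (⊤ : Subgroup P)
  let f : A → Module.End F V := fun a => ρ a
  have hss : ∀ a : A, (f a).IsSemisimple := by
    intro a
    obtain ⟨j, hj⟩ := hP (a : P)
    refine Module.End.isSemisimple_of_squarefree_aeval_eq_zero
      (p := Polynomial.X ^ (p ^ j) - Polynomial.C (1 : F)) ?_ ?_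
    · refine (Polynomial.separable_X_pow_sub_C (1 : F) ?_ one_ne_zero).squarefree
      rw [Nat.cast_pow]
      exact pow_ne_zero _ hp0
    · rw [map_sub, map_pow, Polynomial.aeval_X, Polynomial.aeval_C, map_one, ← map_pow, hj,
        map_one, sub_self]
  let W : (A → F) → Submodule F V := fun χ => ⨅ a, (f a).maxGenEigenspace (χ a)
  have htop : ⨆ χ, W χ = ⊤ :=
    Module.End.iSup_iInf_maxGenEigenspace_eq_top_of_iSup_maxGenEigenspace_eq_top_of_commute f
      (fun a b _ => (hAc a a.2 b b.2).map ρ) (fun a => Module.End.iSup_maxGenEigenspace_eq_top _)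
  have heig : ∀ χ v, v ∈ W χ ↔ ∀ a : A, ρ a v = χ a • v := by
    intro χ v
    simp only [W, Submodule.mem_iInf]
    refine forall_congr' fun a => ?_
    rw [(hss a).isFinitelySemisimple.maxGenEigenspace_eq_eigenspace, Module.End.mem_eigenspace_iff]
  have hind : iSupIndep W :=
    Module.End.independent_iInf_maxGenEigenspace_of_forall_mapsTo f
      fun a b φ => Module.End.mapsTo_maxGenEigenspace_of_comm ((hAc b b.2 a a.2).map ρ) φ
  haveI : Fintype {χ // W χ ≠ ⊥} := hind.fintypeNeBotOfFiniteDimensional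
  have hcard : Nat.card {χ // W χ ≠ ⊥} ≤ Module.finrank F V := by
    rw [Nat.card_eq_fintype_card]
    exact hind.subtype_ne_bot_le_finrank
  have hnorm : ∀ g : P, ∀ a : A, g⁻¹ * a * g ∈ A := by
    intro g a
    have h := (Subgroup.mem_normalizer_iff.1 (hAn (Subgroup.mem_top g⁻¹)) a).1 a.2
    rwa [inv_inv] at h
  let act : P → (A → F) → (A → F) := fun g χ a => χ ⟨g⁻¹ * a * g, hnorm g a⟩
  have hmap : ∀ g χ v, v ∈ W χ → ρ g v ∈ W (act g χ) := by
    intro g χ v hv
    rw [heig] at hv ⊢
    intro a
    show (ρ a * ρ g) v = χ ⟨g⁻¹ * a * g, hnorm g a⟩ • ρ g v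
    rw [← map_mul, show (a : P) * g = g * (g⁻¹ * a * g) by group, map_mul]
    show ρ g (ρ (g⁻¹ * a * g) v) = _
    rw [hv ⟨g⁻¹ * a * g, hnorm g a⟩, map_smul]
  letI : MulAction P {χ // W χ ≠ ⊥} :=
    { smul := fun g χ => ⟨act g χ.1, fun hb => χ.2 (by
        rw [Submodule.eq_bot_iff]
        intro v hv
        have h1 := hmap g χ.1 v hv
        rw [hb, Submodule.mem_bot] at h1
        have h2 : (ρ g⁻¹ * ρ g) v = v := by rw [← map_mul, inv_mul_cancel, map_one]; rfl
        rw [← h2]
        show ρ g⁻¹ (ρ g v) = 0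
        rw [h1, map_zero])⟩
      one_smul := fun χ => Subtype.ext (funext fun a => congrArg χ.1 (Subtype.ext (by simp)))
      mul_smul := fun g h χ => Subtype.ext (funext fun a => congrArg χ.1 (Subtype.ext (by
        simp [mul_assoc]))) }
  rw [Subgroup.eq_bot_iff_forall]
  intro x hx
  have hfix : derivedSeries P (Nat.log 2 (Module.finrank F V)) ≤
      Subgroup.centralizer (A : Set P) := by
    intro g hg a ha
    refine hρ (LinearMap.ext fun v => ?_)
    have hle : ⨆ χ, W χ ≤ LinearMap.eqLocus (ρ (a * g)) (ρ (g * a)) := by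
      refine iSup_le fun χ v hv => ?_
      by_cases hχ : W χ = ⊥
      · rw [hχ, Submodule.mem_bot] at hv
        rw [hv]
        exact zero_mem _
      have h1 := derivedSeries_fixes hP hcard hg (⟨χ, hχ⟩ : {χ // W χ ≠ ⊥})
      have h2 := hmap g χ v hv
      rw [show act g χ = χ from congrArg Subtype.val h1, heig] at h2
      rw [heig] at hv
      show ρ (a * g) v = ρ (g * a) v
      rw [map_mul, map_mul]
      show ρ a (ρ g v) = ρ g (ρ a v)
      rw [h2 ⟨a, ha⟩, hv ⟨a, ha⟩, map_smul]
    rw [htop] at hle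
    exact hle (Submodule.mem_top (x := v))
  have hA : derivedSeries P (Nat.log 2 (Module.finrank F V)) ≤ A :=
    fun g hg => hAC ⟨Subgroup.mem_top g, hfix hg⟩
  rw [derivedSeries_succ] at hx
  have h := Subgroup.commutator_mono hA hA hx
  rwa [Subgroup.commutator_eq_bot_iff_le_centralizer.2 fun a ha b hb => hAc b hb a ha,
    Subgroup.mem_bot] at h

end Cfsg.Agent.LinearPGroup
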