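import Mathlib
import Cfsg.Agent.Lib.LinearPGroup.DerivedLength
import Cfsg.Agent.Lib.Classical.SylowLargePrime

/-!
# The derived length of `p`-groups of matrices over a finite field of characteristic not `p`

With `e` the multiplicative order of `q` modulo `p`, a `p`-subgroup of `GL_n(q)` permutes the
weights of a self-centralizing abelian normal subgroup in orbits of size at most `n / e`, since the
Frobenius map moves each such orbit to `e` disjoint ones; so its derived length is at most
`⌊log_p (n / e)⌋ + 1`.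
-/

set_option autoImplicit false

namespace Cfsg.Agent.LinearPGroup

open CfsgLib Matrix

variable {P : Type*} [Group P] [Finite P] {p : ℕ} [hp : Fact p.Prime]

/-- With orbits of at most `p ^ k` points the `k`-th derived subgroup acts trivially. -/
theorem derivedSeries_fixes_pow {Ω : Type*} [Finite Ω] [MulAction P Ω] (hP : IsPGroup p P) {k : ℕ}
    (h : ∀ ω : Ω, Nat.card (MulAction.orbit P ω) ≤ p ^ k) {x : P} (hx : x ∈ derivedSeries P k)
    (ω : Ω) : x • ω = ω := by
  rw [← der_top] at hx
  refine der_fixes hP k ⊤ (fun ω' => le_trans (Nat.card_mono (Set.toFinite _) ?_) (h ω')) x hx ω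
  rintro _ ⟨⟨g, -⟩, rfl⟩
  exact ⟨g, rfl⟩

variable {F : Type*} [Field F] [Fintype F]

/-- A `p`-group of matrices over a field with `q` elements, `p ∤ q`, has derived length at most
`⌊log_p (n / e)⌋ + 1`, where `e` is the order of `q` modulo `p`. -/
theorem derivedSeries_eq_bot_cross {q : ℕ} (hq : Fintype.card F = q) (hpq : ¬ p ∣ q)
    (hP : IsPGroup p P) {n : ℕ} (hen : orderOf (q : ZMod p) ≤ n)
    (M : P →* Matrix (Fin n) (Fin n) F) (hM : Function.Injective M) :
    derivedSeries P (Nat.log p (n / orderOf (q : ZMod p)) + 1) = ⊥ := by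
  classical
  set e := orderOf (q : ZMod p) with he
  have he0 : 0 < e := Classical.SylowLargePrime.order_pos hpq
  have hqp : ((q : ℕ) : ZMod p) ≠ 0 := by rwa [Ne, CharP.cast_eq_zero_iff (ZMod p) p]
  have hep : e < p := by
    have h1 := Nat.le_of_dvd (by have := hp.out.two_le; omega)
      (ZMod.orderOf_dvd_card_sub_one hqp)
    have := hp.out.two_le
    omega
  have hcop : e.Coprime p :=
    (hp.out.coprime_iff_not_dvd.mpr fun h => absurd (Nat.le_of_dvd he0 h) (not_le.mpr hep)).symm
  set k := Nat.log p (n / e) with hk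
  let K := AlgebraicClosure F
  let φ : K →+* K := (FiniteField.frobeniusAlgHom F K).toRingHom
  have hφ : ∀ x : K, φ x = x ^ q := fun x => by
    rw [← hq]; rfl
  let ρ : P →* Module.End K (Fin n → K) :=
    ((Matrix.toLinAlgEquiv' : Matrix (Fin n) (Fin n) K ≃ₐ[K] _).toRingEquiv.toMonoidHom).comp
      ((algebraMap F K).mapMatrix.toMonoidHom.comp M)
  have hρapp : ∀ (g : P) (v : Fin n → K), ρ g v = ((M g).map (algebraMap F K)) *ᵥ v := fun g v => rfl
  have hρ : Function.Injective ρ := by
    intro x y h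
    refine hM (Matrix.ext fun i j => (algebraMap F K).injective ?_)
    have h' := (Matrix.toLinAlgEquiv' : Matrix (Fin n) (Fin n) K ≃ₐ[K] _).injective h
    exact congrArg (fun A : Matrix (Fin n) (Fin n) K => A i j) h'
  -- coordinatewise Frobenius commutes with the matrices
  have hσ : ∀ (g : P) (v : Fin n → K), ρ g (fun i => φ (v i)) = fun i => φ (ρ g v i) := by
    intro g v
    funext i
    rw [hρapp, hρapp, RingHom.map_mulVec]
    rw [show (((M g).map (algebraMap F K)).map φ) = (M g).map (algebraMap F K) from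
      Matrix.ext fun a b => (FiniteField.frobeniusAlgHom F K).commutes (M g a b)]
    rfl
  have hp0 : (p : K) ≠ 0 := by
    intro h0
    obtain ⟨c, hc⟩ := CharP.exists F
    have hcp : c.Prime := CharP.char_is_prime F c
    haveI : CharP K c := charP_of_injective_algebraMap (algebraMap F K).injective c
    have hcd : c = p := (Nat.prime_dvd_prime_iff_eq hcp hp.out).mp ((CharP.cast_eq_zero_iff K c p).mp h0)
    have : (q : F) = 0 := by rw [← hq]; exact FiniteField.cast_card_eq_zero F
    exact hpq (hcd ▸ (CharP.cast_eq_zero_iff F c q).mp this)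
  -- weights of a self-centralizing abelian normal subgroup
  haveI : Group.IsNilpotent (⊤ : Subgroup P) := (hP.to_subgroup ⊤).isNilpotent
  obtain ⟨A, -, hAn, hAc, hAC⟩ := DStar.exists_self_centralizing (⊤ : Subgroup P)
  let f : A → Module.End K (Fin n → K) := fun a => ρ a
  have hss : ∀ a : A, (f a).IsSemisimple := by
    intro a
    obtain ⟨j, hj⟩ := hP (a : P)
    refine Module.End.isSemisimple_of_squarefree_aeval_eq_zero
      (p := Polynomial.X ^ (p ^ j) - Polynomial.C (1 : K)) ?_ ?_
    · refine (Polynomial.separable_X_pow_sub_C (1 : K) ?_ one_ne_zero).squarefree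
      rw [Nat.cast_pow]
      exact pow_ne_zero _ hp0
    · rw [map_sub, map_pow, Polynomial.aeval_X, Polynomial.aeval_C, map_one, ← map_pow, hj,
        map_one, sub_self]
  let W : (A → K) → Submodule K (Fin n → K) := fun χ => ⨅ a, (f a).maxGenEigenspace (χ a)
  have htop : ⨆ χ, W χ = ⊤ :=
    Module.End.iSup_iInf_maxGenEigenspace_eq_top_of_iSup_maxGenEigenspace_eq_top_of_commute f
      (fun a b _ => (hAc a a.2 b b.2).map ρ) (fun a => Module.End.iSup_maxGenEigenspace_eq_top _)
  have heig : ∀ χ v, v ∈ W χ ↔ ∀ a : A, ρ a v = χ a • v := by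
    intro χ v
    simp only [W, Submodule.mem_iInf]
    refine forall_congr' fun a => ?_
    rw [(hss a).isFinitelySemisimple.maxGenEigenspace_eq_eigenspace, Module.End.mem_eigenspace_iff]
  have hind : iSupIndep W :=
    Module.End.independent_iInf_maxGenEigenspace_of_forall_mapsTo f
      fun a b ψ => Module.End.mapsTo_maxGenEigenspace_of_comm ((hAc b b.2 a a.2).map ρ) ψ
  haveI : Fintype {χ // W χ ≠ ⊥} := hind.fintypeNeBotOfFiniteDimensional
  have hcard : Nat.card {χ // W χ ≠ ⊥} ≤ n := by
    rw [Nat.card_eq_fintype_card]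
    exact hind.subtype_ne_bot_le_finrank.trans (Module.finrank_fin_fun K).le
  have hnorm : ∀ g : P, ∀ a : A, g⁻¹ * a * g ∈ A := by
    intro g a
    have h := (Subgroup.mem_normalizer_iff.1 (hAn (Subgroup.mem_top g⁻¹)) a).1 a.2
    rwa [inv_inv] at h
  let act : P → (A → K) → (A → K) := fun g χ a => χ ⟨g⁻¹ * a * g, hnorm g a⟩
  have hmap : ∀ g χ v, v ∈ W χ → ρ g v ∈ W (act g χ) := by
    intro g χ v hv
    rw [heig] at hv ⊢
    intro a
    show (ρ a * ρ g) v = χ ⟨g⁻¹ * a * g, hnorm g a⟩ • ρ g v
    rw [← map_mul, show (a : P) * g = g * (g⁻¹ * a * g) by group, map_mul]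
    show ρ g (ρ (g⁻¹ * a * g) v) = _
    rw [hv ⟨g⁻¹ * a * g, hnorm g a⟩, map_smul]
  letI : MulAction P {χ // W χ ≠ ⊥} :=
    { smul := fun g χ => ⟨act g χ.1, fun hb => χ.2 (by
        rw [Submodule.eq_bot_iff]
        intro v hv
        have h1 := hmap g χ.1 v hv
        rw [hb, Submodule.mem_bot] at h1
        have h2 : (ρ g⁻¹ * ρ g) v = v := by rw [← map_mul, inv_mul_cancel, map_one]; rfl
        rw [← h2]
        show ρ g⁻¹ (ρ g v) = 0
        rw [h1, map_zero])⟩
      one_smul := fun χ => Subtype.ext (funext fun a => congrArg χ.1 (Subtype.ext (by simp)))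
      mul_smul := fun g h χ => Subtype.ext (funext fun a => congrArg χ.1 (Subtype.ext (by
        simp [mul_assoc]))) }
  -- the Frobenius map on weights
  let Fr : {χ // W χ ≠ ⊥} → {χ // W χ ≠ ⊥} := fun χ =>
    ⟨fun a => φ (χ.1 a), by
      obtain ⟨v, hv, hv0⟩ := (Submodule.ne_bot_iff _).mp χ.2
      rw [Submodule.ne_bot_iff]
      refine ⟨fun i => φ (v i), ?_, fun h0 => hv0 (funext fun i =>
        φ.injective (by simpa using congrFun h0 i))⟩
      rw [heig] at hv ⊢
      intro a
      rw [hσ, hv a]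
      funext i
      simp⟩
  have hFrinj : Function.Injective Fr := fun χ ψ h =>
    Subtype.ext (funext fun a => φ.injective (congrFun (congrArg Subtype.val h) a))
  have hcomm : ∀ (g : P) (i : ℕ) (χ : {χ // W χ ≠ ⊥}), g • (Fr^[i] χ) = Fr^[i] (g • χ) := by
    intro g i χ
    induction i with
    | zero => rfl
    | succ i ih =>
      rw [Function.iterate_succ_apply', Function.iterate_succ_apply', ← ih]
      rfl
  have hFrval : ∀ (i : ℕ) (χ : {χ // W χ ≠ ⊥}) (a : A), (Fr^[i] χ).1 a = χ.1 a ^ q ^ i := by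
    intro i χ a
    induction i with
    | zero => simp
    | succ i ih =>
      rw [Function.iterate_succ_apply', pow_succ, pow_mul, ← ih, ← hφ]
  -- a nontrivial weight has at least `e` Frobenius conjugates
  have hperiod : ∀ (χ : {χ // W χ ≠ ⊥}) (i : ℕ), (∃ a, χ.1 a ≠ 1) → Fr^[i] χ = χ → e ∣ i := by
    intro χ i hne hfix
    obtain ⟨a, ha⟩ := hne
    obtain ⟨v, hv, hv0⟩ := (Submodule.ne_bot_iff _).mp χ.2
    obtain ⟨j, hj⟩ := hP (a : P)
    have hpow : ∀ m : ℕ, ρ ((a : P) ^ m) v = χ.1 a ^ m • v := by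
      intro m
      induction m with
      | zero => rw [pow_zero, pow_zero, one_smul, map_one]; rfl
      | succ m ih =>
        rw [pow_succ, map_mul, pow_succ', ← smul_smul]
        show ρ ((a : P) ^ m) (ρ a v) = _
        rw [(heig _ _).mp hv a, map_smul, ih]
    have hz : χ.1 a ^ (p ^ j) = 1 := by
      have h1 := hpow (p ^ j)
      rw [hj, map_one] at h1
      have h2 : (χ.1 a ^ (p ^ j) - 1) • v = 0 := by
        rw [sub_smul, one_smul, sub_eq_zero]
        exact h1.symm
      exact sub_eq_zero.mp ((smul_eq_zero.mp h2).resolve_right hv0)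
    have hz0 : χ.1 a ≠ 0 := fun h0 => by
      rw [h0, zero_pow (pow_ne_zero _ hp.out.ne_zero)] at hz
      exact zero_ne_one hz
    have hq1 : 1 ≤ q ^ i := Nat.one_le_pow _ _ (hq ▸ Fintype.card_pos)
    have hfix' : χ.1 a ^ (q ^ i - 1) = 1 := by
      have h1 := hFrval i χ a
      rw [hfix] at h1
      have h2 : χ.1 a ^ (q ^ i - 1) * χ.1 a = 1 * χ.1 a := by
        rw [← pow_succ, Nat.sub_add_cancel hq1, ← h1, one_mul]
      exact mul_right_cancel₀ hz0 h2
    refine (Classical.SylowLargePrime.dvd_pow_sub_one_iff (r := p) (hq ▸ Fintype.card_pos) i).mp ?_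
    obtain ⟨s, -, hs⟩ := (Nat.dvd_prime_pow hp.out).mp (orderOf_dvd_of_pow_eq_one hz)
    rcases Nat.eq_zero_or_pos s with hs0 | hs0
    · rw [hs0, pow_zero, orderOf_eq_one_iff] at hs
      exact absurd hs ha
    · exact (dvd_pow_self p hs0.ne').trans (hs ▸ orderOf_dvd_of_pow_eq_one hfix')
  -- the orbits are small
  have horb : ∀ ω : {χ // W χ ≠ ⊥}, Nat.card (MulAction.orbit P ω) ≤ p ^ k := by
    intro ω
    obtain ⟨j, hj⟩ := hP.card_orbit ω
    rw [hj]
    refine Nat.pow_le_pow_right hp.out.pos (Nat.le_log_of_pow_le hp.out.one_lt ?_)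
    rw [← hj]
    by_cases htriv : ∀ a, ω.1 a = 1
    · have : ∀ g : P, g • ω = ω := fun g => Subtype.ext (funext fun a => by
        show ω.1 _ = ω.1 a
        rw [htriv, htriv])
      have hone : Nat.card (MulAction.orbit P ω) ≤ 1 := by
        refine Finite.card_le_one_iff_subsingleton.mpr ⟨?_⟩
        rintro ⟨_, g, rfl⟩ ⟨_, h, rfl⟩
        exact Subtype.ext ((this g).trans (this h).symm)
      exact hone.trans ((Nat.le_div_iff_mul_le he0).mpr (by rw [one_mul]; exact hen))
    push Not at htriv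
    have hnt : ∀ ν : {χ // W χ ≠ ⊥}, ν ∈ MulAction.orbit P ω → ∃ a, ν.1 a ≠ 1 := by
      rintro _ ⟨g, rfl⟩
      by_contra hall
      push Not at hall
      obtain ⟨a, ha⟩ := htriv
      refine ha ?_
      have h1 := congrFun (congrArg Subtype.val (inv_smul_smul g ω)) a
      rw [← h1]
      exact hall ⟨_, _⟩
    have hd : ∀ (d : ℕ) (g : P) (ν : {χ // W χ ≠ ⊥}), ν ∈ MulAction.orbit P ω →
        g • ν = Fr^[d] ν → e ∣ d := by
      intro d g ν hν hg
      obtain ⟨t, ht⟩ := hP g
      have hm : ∀ m : ℕ, g ^ m • ν = Fr^[d * m] ν := by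
        intro m
        induction m with
        | zero => simp
        | succ m ih =>
          rw [pow_succ', mul_smul, ih, hcomm, hg, ← Function.iterate_add_apply, Nat.mul_succ]
      have h1 := hm (p ^ t)
      rw [ht, one_smul] at h1
      exact (hcop.pow_right t).dvd_of_dvd_mul_right (hperiod ν _ (hnt ν hν) h1.symm)
    refine (Nat.le_div_iff_mul_le he0).mpr (le_trans ?_ hcard)
    let Ψ : MulAction.orbit P ω × Fin e → {χ // W χ ≠ ⊥} := fun z => Fr^[(z.2 : ℕ)] z.1
    have key : ∀ z w : MulAction.orbit P ω × Fin e, (z.2 : ℕ) ≤ w.2 → Ψ z = Ψ w → z = w := by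
      rintro ⟨⟨μ, hμ⟩, i⟩ ⟨⟨ν, hν⟩, l⟩ hle h
      simp only [Ψ] at h
      simp only at hle
      obtain ⟨d, hdl⟩ := Nat.exists_eq_add_of_le hle
      rw [hdl, Function.iterate_add_apply] at h
      have h1 : μ = Fr^[d] ν := hFrinj.iterate _ h
      obtain ⟨g, hg⟩ : ∃ g : P, g • ν = μ := by
        have h2 : μ ∈ MulAction.orbit P ν := by
          rw [MulAction.orbit_eq_iff.mpr hν]; exact hμ
        exact h2
      have hd0 : d = 0 := Nat.eq_zero_of_dvd_of_lt (hd d g ν hν (hg.trans h1))
        (by have := l.2; omega)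
      subst hd0
      exact Prod.ext (Subtype.ext h1) (Fin.ext (by simpa using hdl.symm))
    have hinj : Function.Injective Ψ := fun z w h => by
      rcases le_total (z.2 : ℕ) w.2 with hle | hle
      · exact key z w hle h
      · exact (key w z hle h.symm).symm
    have h3 := Nat.card_le_card_of_injective Ψ hinj
    rwa [Nat.card_prod, Nat.card_fin] at h3
  -- conclusion
  rw [Subgroup.eq_bot_iff_forall]
  intro x hx
  have hfix : derivedSeries P k ≤ Subgroup.centralizer (A : Set P) := by
    intro g hg a ha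
    refine hρ (LinearMap.ext fun v => ?_)
    have hle : ⨆ χ, W χ ≤ LinearMap.eqLocus (ρ (a * g)) (ρ (g * a)) := by
      refine iSup_le fun χ v hv => ?_
      by_cases hχ : W χ = ⊥
      · rw [hχ, Submodule.mem_bot] at hv
        rw [hv]
        exact zero_mem _
      have h1 := derivedSeries_fixes_pow hP horb hg (⟨χ, hχ⟩ : {χ // W χ ≠ ⊥})
      have h2 := hmap g χ v hv
      rw [show act g χ = χ from congrArg Subtype.val h1, heig] at h2
      rw [heig] at hv
      show ρ (a * g) v = ρ (g * a) v
      rw [map_mul, map_mul]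
      show ρ a (ρ g v) = ρ g (ρ a v)
      rw [h2 ⟨a, ha⟩, hv ⟨a, ha⟩, map_smul]
    rw [htop] at hle
    exact hle (Submodule.mem_top (x := v))
  have hA : derivedSeries P k ≤ A := fun g hg => hAC ⟨Subgroup.mem_top g, hfix hg⟩
  rw [derivedSeries_succ] at hx
  have h := Subgroup.commutator_mono hA hA hx
  rwa [Subgroup.commutator_eq_bot_iff_le_centralizer.2 fun a ha b hb => hAc b hb a ha,
    Subgroup.mem_bot] at h

end Cfsg.Agent.LinearPGroup
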