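import Mathlib
import Cfsg.Agent.Lib.Classical.SylowLargePrime

/-!
# Monomial representations of regular wreath products and of iterated wreath products of `C_p`
-/

set_option autoImplicit false

namespace Cfsg.Agent.LinearPGroup

open Matrix

variable {D Q ι R : Type*} [Group D] [Group Q] [Fintype Q] [DecidableEq Q] [Fintype ι] [DecidableEq ι]
  [CommRing R]

/-- The monomial representation of a regular wreath product. -/
def wreathRep (ρ : D →* Matrix ι ι R) : D ≀ᵣ Q →* Matrix (ι × Q) (ι × Q) R where
  toFun w := Matrix.of fun x y => if y.2 = w.right⁻¹ * x.2 then ρ (w.left x.2) x.1 y.1 else 0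
  map_one' := by
    ext ⟨i, a⟩ ⟨j, c⟩
    by_cases h : c = a
    · subst h; simp [Matrix.one_apply]
    · simp [Matrix.one_apply, h, Ne.symm h]
  map_mul' v w := by
    ext ⟨i, a⟩ ⟨j, c⟩
    rw [Matrix.mul_apply, Fintype.sum_prod_type_right, Fintype.sum_eq_single (v.right⁻¹ * a)]
    · simp only [Matrix.of_apply, RegularWreathProduct.mul_right, RegularWreathProduct.mul_left,
        _root_.mul_inv_rev, mul_assoc, ↓reduceIte, Pi.mul_apply, map_mul, Matrix.mul_apply]
      split_ifs
      · rfl
      · simp
    · intro b hb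
      exact Finset.sum_eq_zero fun l _ => by simp [hb]

theorem wreathRep_injective [Nontrivial R] [Nonempty ι] {ρ : D →* Matrix ι ι R}
    (hρ : Function.Injective ρ) : Function.Injective (wreathRep (Q := Q) ρ) := by
  intro v w h
  have hright : v.right = w.right := by
    by_contra hne
    obtain ⟨i⟩ := ‹Nonempty ι›
    have hz : ∀ j, ρ (v.left 1) i j = 0 := fun j => by
      have := congrFun (congrFun h (i, 1)) (j, v.right⁻¹)
      simpa [wreathRep, hne] using this
    have h1 : (ρ (v.left 1) * ρ (v.left 1)⁻¹) i i = 0 := by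
      rw [Matrix.mul_apply]
      exact Finset.sum_eq_zero fun j _ => by rw [hz j, zero_mul]
    rw [← map_mul, mul_inv_cancel, map_one, Matrix.one_apply_eq] at h1
    exact one_ne_zero h1
  refine RegularWreathProduct.ext (funext fun a => hρ (Matrix.ext fun i j => ?_)) hright
  have := congrFun (congrFun h (i, a)) (j, v.right⁻¹ * a)
  simpa [wreathRep, hright] using this

variable {p : ℕ} [hp : Fact p.Prime] {F : Type*} [Field F] [Fintype F] {q : ℕ}

/-- The `(m + 1)`-fold iterated wreath product of `C_p` acts faithfully in degree `e * p ^ m`. -/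
theorem exists_iterated_rep (hq : Fintype.card F = q) (hpq : ¬ p ∣ q) : ∀ m : ℕ,
    ∃ ρ : IteratedWreathProduct (Multiplicative (ZMod p)) (m + 1) →*
      Matrix (Fin (orderOf (q : ZMod p) * p ^ m)) (Fin (orderOf (q : ZMod p) * p ^ m)) F,
      Function.Injective ρ := by
  have he : 0 < orderOf (q : ZMod p) := CfsgLib.Classical.SylowLargePrime.order_pos hpq
  intro m
  induction m with
  | zero =>
    obtain ⟨K, _, _, _, φ, hφ, hc⟩ := CfsgLib.Singer.exists_fieldExt_embedding (F := F) _ he
    obtain ⟨cyc, hcyc⟩ := CfsgLib.Classical.SylowLargePrime.exists_cyclic_hom (G := Kˣ) (N := p) (by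
      rw [Nat.card_units, hc, Nat.card_eq_fintype_card, hq,
        CfsgLib.Classical.SylowLargePrime.dvd_pow_sub_one_iff (hq ▸ Fintype.card_pos)])
    let E := (Matrix.reindexAlgEquiv F F (finCongr (mul_one (orderOf (q : ZMod p))).symm))
    let r : IteratedWreathProduct (Multiplicative (ZMod p)) 1 →* Multiplicative (ZMod p) :=
      (RegularWreathProduct.rightHom :
        IteratedWreathProduct (Multiplicative (ZMod p)) 0 ≀ᵣ Multiplicative (ZMod p) →* _)
    refine ⟨E.toMulEquiv.toMonoidHom.comp (φ.toRingHom.toMonoidHom.comp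
      ((Units.coeHom K).comp (cyc.comp r))), fun x y h => ?_⟩
    have h1 : RegularWreathProduct.right x = RegularWreathProduct.right y :=
      hcyc (Units.ext (hφ (E.injective h)))
    exact RegularWreathProduct.ext (funext fun _ => rfl) h1
  | succ m ih =>
    obtain ⟨ρ, hρ⟩ := ih
    haveI : Nonempty (Fin (orderOf (q : ZMod p) * p ^ m)) :=
      Fin.pos_iff_nonempty.mp (Nat.mul_pos he (pow_pos hp.out.pos m))
    let e : Fin (orderOf (q : ZMod p) * p ^ m) × Multiplicative (ZMod p) ≃
        Fin (orderOf (q : ZMod p) * p ^ (m + 1)) :=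
      Fintype.equivFinOfCardEq (by simp [pow_succ, mul_assoc])
    let R : IteratedWreathProduct (Multiplicative (ZMod p)) (m + 1) ≀ᵣ Multiplicative (ZMod p) →*
        Matrix (Fin (orderOf (q : ZMod p) * p ^ (m + 1))) (Fin (orderOf (q : ZMod p) * p ^ (m + 1))) F :=
      (Matrix.reindexAlgEquiv F F e).toMulEquiv.toMonoidHom.comp (wreathRep ρ)
    exact ⟨R, (Matrix.reindexAlgEquiv F F e).injective.comp (wreathRep_injective hρ)⟩

end Cfsg.Agent.LinearPGroup
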