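import Mathlib
import Cfsg.Agent.Lib.LinearPGroup.WreathRep
import Cfsg.Agent.Lib.SL2.Facts
import Cfsg.Agent.Lib.Fusion.SupersolubleExceptions
import Cfsg.Agent.S4014

/-!
# Wreath products inside symplectic groups

Iterated wreath products of a Sylow `2`-subgroup of `SL_2(q)` with `C_2` give `2`-subgroups of
`Sp_{2n}(q)` of derived length `⌊log₂ n⌋ + 2`.
-/

set_option autoImplicit false

namespace Cfsg.Agent.LinearPGroup

open Matrix

section general

variable {D Q ι κ R : Type*} [Group D] [Group Q] [Fintype Q] [DecidableEq Q] [Fintype ι]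
  [DecidableEq ι] [Fintype κ] [DecidableEq κ] [CommRing R]

/-- The form on the copies. -/
def copies (Q : Type*) [DecidableEq Q] (A : Matrix ι ι R) : Matrix (ι × Q) (ι × Q) R :=
  Matrix.of fun x y => if x.2 = y.2 then A x.1 y.1 else 0

theorem wreathRep_preserves (ρ : D →* Matrix ι ι R) (A : Matrix ι ι R)
    (h : ∀ d, ρ d * A * (ρ d)ᵀ = A) (w : D ≀ᵣ Q) :
    wreathRep ρ w * copies Q A * (wreathRep ρ w)ᵀ = copies Q A := by
  ext ⟨i, a⟩ ⟨j, c⟩
  have h1 : ∀ y : ι × Q, (wreathRep ρ w * copies Q A) (i, a) y =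
      if y.2 = w.right⁻¹ * a then (ρ (w.left a) * A) i y.1 else 0 := by
    rintro ⟨l, b⟩
    rw [Matrix.mul_apply, Fintype.sum_prod_type_right, Fintype.sum_eq_single b]
    · simp only [wreathRep, copies, MonoidHom.coe_mk, OneHom.coe_mk, Matrix.of_apply, ↓reduceIte]
      split_ifs
      · rfl
      · simp
    · intro b' hb'
      exact Finset.sum_eq_zero fun l' _ => by simp [copies, hb']
  rw [Matrix.mul_apply, Fintype.sum_prod_type_right, Fintype.sum_eq_single (w.right⁻¹ * a)]
  · simp only [h1, ↓reduceIte]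
    simp only [Matrix.transpose_apply, wreathRep, copies, MonoidHom.coe_mk, OneHom.coe_mk,
      Matrix.of_apply]
    by_cases hca : a = c
    · subst hca
      rw [if_pos rfl, ← congrFun (congrFun (h (w.left a)) i) j, Matrix.mul_apply]
      simp
    · rw [if_neg hca, Finset.sum_eq_zero]
      intro l _
      rw [if_neg fun e => hca (mul_left_cancel e), mul_zero]
  · intro b hb
    exact Finset.sum_eq_zero fun l _ => by rw [h1, if_neg hb, zero_mul]

theorem reindex_preserves (e : ι ≃ κ) {M A : Matrix ι ι R} (h : M * A * Mᵀ = A) :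
    Matrix.reindex e e M * Matrix.reindex e e A * (Matrix.reindex e e M)ᵀ = Matrix.reindex e e A := by
  simp only [Matrix.reindex_apply, Matrix.transpose_submatrix, Matrix.submatrix_mul_equiv, h]

end general

variable {F : Type*} [Field F]

local notation:max "Jm" b:max => Matrix.J (Fin b) F

theorem reindex_copies {b : ℕ} {Q : Type*} [Fintype Q] [DecidableEq Q] {b' : ℕ} (e : Fin b × Q ≃ Fin b') :
    Matrix.reindex ((Equiv.sumProdDistrib _ _ _).trans (Equiv.sumCongr e e))
      ((Equiv.sumProdDistrib _ _ _).trans (Equiv.sumCongr e e)) (copies Q (Jm b)) = Jm b' := by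
  ext x y
  rcases x with x | x <;> rcases y with y | y <;>
    obtain ⟨⟨i, a⟩, rfl⟩ := e.surjective x <;> obtain ⟨⟨j, c⟩, rfl⟩ := e.surjective y <;>
    simp [copies, Matrix.J, Matrix.one_apply, e.injective.eq_iff, Prod.ext_iff] <;>
    by_cases a = c <;> simp_all

theorem exists_wreath_subgroup [Finite F] {b : ℕ} [NeZero b] (H : Subgroup (Matrix.symplecticGroup (Fin b) F))
    (hH : IsPGroup 2 H) {d : ℕ} (hd : derivedSeries H d ≠ ⊥) :
    ∃ H' : Subgroup (Matrix.symplecticGroup (Fin (b * 2)) F),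
      IsPGroup 2 H' ∧ derivedSeries H' (d + 1) ≠ ⊥ := by
  classical
  let ρ : H →* Matrix (Fin b ⊕ Fin b) (Fin b ⊕ Fin b) F :=
    (Matrix.symplecticGroup (Fin b) F).subtype.comp H.subtype
  have hρ : Function.Injective ρ := fun x y h => Subtype.ext (Subtype.ext h)
  let e : Fin b × Multiplicative (ZMod 2) ≃ Fin (b * 2) := Fintype.equivFinOfCardEq (by simp)
  let E := (Equiv.sumProdDistrib (Fin b) (Fin b) (Multiplicative (ZMod 2))).trans (Equiv.sumCongr e e)
  let f : H ≀ᵣ Multiplicative (ZMod 2) →* Matrix (Fin (b * 2) ⊕ Fin (b * 2)) (Fin (b * 2) ⊕ Fin (b * 2)) F :=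
    (Matrix.reindexAlgEquiv F F E).toMulEquiv.toMonoidHom.comp (wreathRep ρ)
  have hmem : ∀ w, f w ∈ Matrix.symplecticGroup (Fin (b * 2)) F := fun w => by
    rw [SymplecticGroup.mem_iff, ← reindex_copies e]
    exact reindex_preserves E (wreathRep_preserves ρ _ (fun x => SymplecticGroup.mem_iff.mp
      (x : Matrix.symplecticGroup (Fin b) F).2) w)
  let g := f.codRestrict _ hmem
  have hg : Function.Injective g := fun x y h => wreathRep_injective hρ
    ((Matrix.reindexAlgEquiv F F E).injective (congrArg Subtype.val h))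
  refine ⟨g.range, ?_, fun hbot => ?_⟩
  · haveI : Finite H := inferInstance
    obtain ⟨n, hn⟩ := IsPGroup.iff_card.mp hH
    refine IsPGroup.of_surjective (IsPGroup.of_card (n := n * 2 + 1) ?_) g.rangeRestrict
      g.rangeRestrict_surjective
    rw [RegularWreathProduct.card, hn]
    simp [pow_succ, ← pow_add, mul_two]
  · exact Cfsg.Agent.S4014.wreath_derived_ne_bot (fun a c => mul_comm a c) hd
      (Cfsg.Agent.S4014.derivedSeries_eq_bot_of_injective g.rangeRestrict
        (MonoidHom.rangeRestrict_injective_iff.mpr hg) hbot)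

theorem exists_base [Finite F] (hodd : Odd (Nat.card F)) :
    ∃ H : Subgroup (Matrix.symplecticGroup (Fin 1) F), IsPGroup 2 H ∧ derivedSeries H 1 ≠ ⊥ := by
  classical
  let E : Fin 2 ≃ Fin 1 ⊕ Fin 1 := (finSumFinEquiv : Fin 1 ⊕ Fin 1 ≃ Fin (1 + 1)).symm
  let S : Sylow 2 (Matrix.SpecialLinearGroup (Fin 2) F) := default
  have hJ : Matrix.reindex E E (!![0, -1; 1, 0] : Matrix (Fin 2) (Fin 2) F) = Jm 1 := by
    ext x y
    rcases x with x | x <;> rcases y with y | y <;> fin_cases x <;> fin_cases y <;>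
      simp [E, Matrix.J, Fin.ext_iff, Matrix.one_apply, finSumFinEquiv]
  let f : Matrix.SpecialLinearGroup (Fin 2) F →* Matrix (Fin 1 ⊕ Fin 1) (Fin 1 ⊕ Fin 1) F :=
    (Matrix.reindexAlgEquiv F F E).toMulEquiv.toMonoidHom.comp
      { toFun := fun A => (A : Matrix (Fin 2) (Fin 2) F), map_one' := rfl, map_mul' := fun _ _ => rfl }
  have hmem : ∀ A, f A ∈ Matrix.symplecticGroup (Fin 1) F := fun A => by
    rw [SymplecticGroup.mem_iff, ← hJ]
    refine reindex_preserves E ?_
    obtain ⟨A, hdet⟩ := A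
    show A * !![0, -1; 1, 0] * Aᵀ = !![0, -1; 1, 0]
    rw [Matrix.det_fin_two] at hdet
    ext i j
    fin_cases i <;> fin_cases j <;> simp [Matrix.mul_apply, Fin.sum_univ_two] <;>
      first
        | ring1
        | linear_combination hdet
        | linear_combination -hdet
  let g := f.codRestrict _ hmem
  have hg : Function.Injective g := fun x y h =>
    Subtype.ext ((Matrix.reindexAlgEquiv F F E).injective (congrArg Subtype.val h))
  refine ⟨(S : Subgroup _).map g, S.isPGroup'.map g, fun hbot => ?_⟩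
  obtain ⟨k, hk, ⟨e⟩⟩ := CfsgLib.SL2.sylow_two_quaternion hodd S
  have h1 := Cfsg.Agent.S4014.derivedSeries_eq_bot_of_injective
    ((S : Subgroup _).equivMapOfInjective g hg).toMonoidHom (MulEquiv.injective _) hbot
  rw [derivedSeries_one, commutator_def, Subgroup.commutator_eq_bot_iff_le_centralizer] at h1
  refine CfsgLib.SupersolubleExc.not_comm_quaternion hk fun a c => e.symm.injective ?_
  rw [map_mul, map_mul]
  exact (Subgroup.mem_centralizer_iff.mp (h1 (Subgroup.mem_top (e.symm a))) _ (Subgroup.mem_top _)).symm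

theorem exists_two_subgroup [Finite F] (hodd : Odd (Nat.card F)) : ∀ m : ℕ,
    ∃ H : Subgroup (Matrix.symplecticGroup (Fin (2 ^ m)) F),
      IsPGroup 2 H ∧ derivedSeries H (m + 1) ≠ ⊥ := by
  intro m
  induction m with
  | zero => exact exists_base hodd
  | succ m ih =>
    obtain ⟨H, hH, hd⟩ := ih
    haveI : NeZero (2 ^ m) := ⟨by positivity⟩
    exact pow_succ 2 m ▸ exists_wreath_subgroup H hH hd

/-- Padding by the identity. -/
theorem exists_pad {b n : ℕ} (h : b ≤ n) :
    ∃ f : Matrix.symplecticGroup (Fin b) F →* Matrix.symplecticGroup (Fin n) F, Function.Injective f := by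
  classical
  obtain ⟨c, rfl⟩ := Nat.exists_eq_add_of_le h
  let e : (Fin b ⊕ Fin b) ⊕ (Fin c ⊕ Fin c) ≃ Fin (b + c) ⊕ Fin (b + c) :=
    (Equiv.sumSumSumComm _ _ _ _).trans (Equiv.sumCongr finSumFinEquiv finSumFinEquiv)
  have hJ : Matrix.reindex e e (fromBlocks (Jm b) 0 0 (Jm c)) = Jm (b + c) := by
    ext x y
    rcases x with x | x <;> rcases y with y | y <;>
      obtain ⟨x, rfl⟩ := finSumFinEquiv.surjective x <;> obtain ⟨y, rfl⟩ := finSumFinEquiv.surjective y <;>
      rcases x with x | x <;> rcases y with y | y <;>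
      simp [e, Matrix.J, Matrix.one_apply, Fin.ext_iff] <;> omega
  let f : Matrix.symplecticGroup (Fin b) F →* Matrix (Fin (b + c) ⊕ Fin (b + c)) (Fin (b + c) ⊕ Fin (b + c)) F :=
    (Matrix.reindexAlgEquiv F F e).toMulEquiv.toMonoidHom.comp
      { toFun := fun A => fromBlocks (A : Matrix (Fin b ⊕ Fin b) (Fin b ⊕ Fin b) F) 0 0 1
        map_one' := by simp
        map_mul' := fun A B => by simp [fromBlocks_multiply] }
  have hmem : ∀ A, f A ∈ Matrix.symplecticGroup (Fin (b + c)) F := fun A => by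
    rw [SymplecticGroup.mem_iff, ← hJ]
    refine reindex_preserves e ?_
    show fromBlocks (A : Matrix (Fin b ⊕ Fin b) (Fin b ⊕ Fin b) F) 0 0 1 * fromBlocks (Jm b) 0 0 (Jm c) *
      (fromBlocks (A : Matrix (Fin b ⊕ Fin b) (Fin b ⊕ Fin b) F) 0 0 1)ᵀ = _
    simp [fromBlocks_transpose, fromBlocks_multiply, SymplecticGroup.mem_iff.mp A.2]
  refine ⟨f.codRestrict _ hmem, fun x y h => Subtype.ext ?_⟩
  exact (fromBlocks_inj.mp ((Matrix.reindexAlgEquiv F F e).injective (congrArg Subtype.val h))).1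

end Cfsg.Agent.LinearPGroup
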